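import Cfsg.Agent.RG.B1
import Cfsg.Agent.RG.BD

/-! The involutions that invert the matrix of order five. -/

set_option autoImplicit false
set_option maxRecDepth 1000000

namespace CF.RG.Id
open CF.Comp CF.Dce CF.Comp.Mat CF.J4 CF.JP CF.RF

/-- the matrix of order five determined by the matrix of order 31 -/
noncomputable def dH (X : ℕ) : ℕ := mm 10 (mo 10) (pkc 10 10 fun i =>
  vm 10 (if i < 5 then 1 else 32) (pw (mm 10) (mo 10) (mm 10 X X) (i % 5)))

theorem chk_QL : ∀ f ∈ FL, ∀ g ∈ FL, (∀ i < 10, fld 10 (mo 10) i =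
    vm 10 (if i < 5 then 1 else 32) (pw (mm 10) (mo 10) (blk f g) (i % 5))) ∧
    ∃ d ∈ QL, nth 0 d 0 = f ∧ nth 0 d 1 = g ∧ mm 10 (nth 0 d 2) (nth 0 d 3) = mo 10 ∧
      mm 10 (nth 0 d 3) (nth 0 d 2) = mo 10 ∧ mm 10 (nth 0 d 3) (mm 10 (dH (blk f g)) (nth 0 d 2)) = H0 ∧
      mm 10 (nth 0 d 3) (mm 10 (blk f g) (nth 0 d 2)) ∈ XL := by decide +kernel

/-- the inverse matrix -/
noncomputable def H4 : ℕ := pw (mm 10) (mo 10) H0 4

/-- four rows of an involution -/
noncomputable def rw4 (w : ℕ) : ℕ := force H4 fun B => pkc 10 4 (ob 10 B w)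

/-- the product written out -/
noncomputable def fm (c A B : ℕ) : ℕ :=
  (Nat.xor (Nat.xor (Nat.xor (Nat.xor (Nat.xor (Nat.xor (Nat.xor (Nat.xor (Nat.xor
    (Nat.mul (Nat.land (Nat.shiftRight A (nat_lit 0)) c) (Nat.land (Nat.shiftRight B (nat_lit 0)) (nat_lit 1023)))
    (Nat.mul (Nat.land (Nat.shiftRight A (nat_lit 1)) c) (Nat.land (Nat.shiftRight B (nat_lit 10)) (nat_lit 1023))))
    (Nat.mul (Nat.land (Nat.shiftRight A (nat_lit 2)) c) (Nat.land (Nat.shiftRight B (nat_lit 20)) (nat_lit 1023))))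
    (Nat.mul (Nat.land (Nat.shiftRight A (nat_lit 3)) c) (Nat.land (Nat.shiftRight B (nat_lit 30)) (nat_lit 1023))))
    (Nat.mul (Nat.land (Nat.shiftRight A (nat_lit 4)) c) (Nat.land (Nat.shiftRight B (nat_lit 40)) (nat_lit 1023))))
    (Nat.mul (Nat.land (Nat.shiftRight A (nat_lit 5)) c) (Nat.land (Nat.shiftRight B (nat_lit 50)) (nat_lit 1023))))
    (Nat.mul (Nat.land (Nat.shiftRight A (nat_lit 6)) c) (Nat.land (Nat.shiftRight B (nat_lit 60)) (nat_lit 1023))))
    (Nat.mul (Nat.land (Nat.shiftRight A (nat_lit 7)) c) (Nat.land (Nat.shiftRight B (nat_lit 70)) (nat_lit 1023))))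
    (Nat.mul (Nat.land (Nat.shiftRight A (nat_lit 8)) c) (Nat.land (Nat.shiftRight B (nat_lit 80)) (nat_lit 1023))))
    (Nat.mul (Nat.land (Nat.shiftRight A (nat_lit 9)) c) (Nat.land (Nat.shiftRight B (nat_lit 90)) (nat_lit 1023))))

theorem fm_eq (c A B : ℕ) : fm c A B = ps 10 c A B 10 := by
  rw [← mul2_eq, (by decide : full 10 = 1023)]
  exact congrArg (Nat.xor · _) (congrArg (Nat.xor · _) (congrArg (Nat.xor · _) (congrArg (Nat.xor · _)
    (congrArg (Nat.xor · _) (congrArg (Nat.xor · _) (congrArg (Nat.xor · _) (congrArg (Nat.xor · _)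
    (congrArg (Nat.xor · _) (Nat.zero_xor _).symm))))))))

theorem fm_vm (c x : ℕ) : fm (nat_lit 1) c x = vm 10 c x := (fm_eq _ _ _).trans (vm_eq _ _ _).symm

/-- the product of matrices -/
noncomputable def m0 (A B : ℕ) : ℕ := fm (nat_lit 1239150146850664126585242625) A B

theorem m0_eq (A B : ℕ) : m0 A B = mm 10 A B := by
  rw [m0, fm_eq, mm, mr_eq, (by decide +kernel : repl 10 10 = nat_lit 1239150146850664126585242625)]

attribute [irreducible] fm m0

/-- a coordinate subspace is invariant -/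
noncomputable def red (X T m : ℕ) : Bool := allBin (fun v => force v fun v => imp (Nat.beq (Nat.land v m) 0)
  (Bool.rec false (Nat.beq (Nat.land (vm 10 v T) m) 0) (Nat.beq (Nat.land (vm 10 v X) m) 0))) 1024 10 0

/-- the possible outcomes -/
noncomputable def out (X T : ℕ) : Bool :=
  Bool.rec (lany (fun d => Bool.rec false (Nat.beq T (nth 0 d 1)) (Nat.beq X (nth 0 d 0))) [dA, dB]) true
    (lany (red X T) [752, 271])

/-- the test of the order of the product -/
noncomputable def leaf (T X : ℕ) : Bool := force (m0 X T) fun Y => force (m0 Y Y) fun Z => force (m0 Z Z) fun V =>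
  imp (Nat.beq (m0 V Y) (nat_lit 634134936313486520338360567809)) (out X T)

/-- the last two rows -/
noncomputable def top (S : ℕ) : Bool := lall (fun a => lall (fun b =>
  force (Nat.xor (Nat.xor S (Nat.shiftLeft a 80)) (Nat.shiftLeft b 90)) fun T =>
    imp (Nat.beq (m0 T T) (nat_lit 634134936313486520338360567809)) (lall (leaf T) XL)) [0, 256, 512, 768]) [0, 256, 512, 768]

/-- a part of the search -/
noncomputable def tauOK (s : ℕ) : Bool := force (pkc 40 256 rw4) fun R => allBin (fun a =>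
  force (Nat.add s a) fun a => force (gx 40 R a) fun r => allBin (fun b => force b fun b =>
    force (Nat.xor r (Nat.shiftLeft (gx 40 R b) (nat_lit 40))) fun S => imp (Nat.beq (fm (nat_lit 1) a S) (nat_lit 1))
      (imp (Nat.beq (fm (nat_lit 1) b S) (nat_lit 16)) (top S))) 256 8 0) 64 6 0

theorem chk_tau0 : tauOK 0 = true := by decide +kernel
theorem chk_tau1 : tauOK 64 = true := by decide +kernel
theorem chk_tau2 : tauOK 128 = true := by decide +kernel
theorem chk_tau3 : tauOK 192 = true := by decide +kernel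

end CF.RG.Id
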