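import Cfsg.Agent.RG.A0

/-! Data for the splitting. -/

set_option maxRecDepth 1000000

namespace CF.RG

noncomputable def w18 : List (List ℕ) := [[(nat_lit 1)],
  [(nat_lit 3)],
  [(nat_lit 5)],
  [(nat_lit 7)],
  [(nat_lit 9)],
  [(nat_lit 11)],
  [(nat_lit 13)],
  [(nat_lit 15)],
  [(nat_lit 1), (nat_lit 3), (nat_lit 1), (nat_lit 3)],
  [(nat_lit 3), (nat_lit 5), (nat_lit 3), (nat_lit 5)],
  [(nat_lit 5), (nat_lit 7), (nat_lit 5), (nat_lit 7)],
  [(nat_lit 1), (nat_lit 3), (nat_lit 5), (nat_lit 3), (nat_lit 5), (nat_lit 1), (nat_lit 5), (nat_lit 3), (nat_lit 5), (nat_lit 3)],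
  [(nat_lit 3), (nat_lit 5), (nat_lit 7), (nat_lit 5), (nat_lit 7), (nat_lit 3), (nat_lit 7), (nat_lit 5), (nat_lit 7), (nat_lit 5)],
  [(nat_lit 1), (nat_lit 3), (nat_lit 5), (nat_lit 7), (nat_lit 5), (nat_lit 7), (nat_lit 3), (nat_lit 7), (nat_lit 5), (nat_lit 7), (nat_lit 5), (nat_lit 1), (nat_lit 5), (nat_lit 7), (nat_lit 5), (nat_lit 7), (nat_lit 3), (nat_lit 7), (nat_lit 5), (nat_lit 7), (nat_lit 5), (nat_lit 3)],
  [(nat_lit 1), (nat_lit 13), (nat_lit 1)],
  [(nat_lit 3), (nat_lit 9), (nat_lit 3)],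
  [(nat_lit 5), (nat_lit 11), (nat_lit 5)],
  [(nat_lit 7), (nat_lit 15), (nat_lit 7)]]
noncomputable def L18 : List ℕ := [(nat_lit 634135238545013481589700560897), (nat_lit 634753906333129245660182222849),
  (nat_lit 634134936608778540705789249539), (nat_lit 634134936313486520407113615361),
  (nat_lit 951047586370561885111047948289), (nat_lit 634212345344873719562703473665),
  (nat_lit 634289678855290681024437028865), (nat_lit 634134936322714398173865969665),
  (nat_lit 634135540776396398021692106753), (nat_lit 634134936903782471434554574853),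
  (nat_lit 634134936313486520613372692497), (nat_lit 634134936314063262565640701961),
  (nat_lit 634134936313486520888116512801), (nat_lit 634134936313486520338897700929),
  (nat_lit 633980344887445840277954103297), (nat_lit 317531771266232518226584014849),
  (nat_lit 633902709440793937940903363586), (nat_lit 634134936248891375549981671425)]
noncomputable def rl18 : List (List ℕ × List ℕ) := [([(nat_lit 0), (nat_lit 0)], []),
  ([(nat_lit 1), (nat_lit 1)], []),
  ([(nat_lit 2), (nat_lit 2)], []),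
  ([(nat_lit 3), (nat_lit 3)], []),
  ([(nat_lit 8), (nat_lit 8)], []),
  ([(nat_lit 9), (nat_lit 9)], []),
  ([(nat_lit 10), (nat_lit 10)], []),
  ([(nat_lit 11), (nat_lit 11)], []),
  ([(nat_lit 12), (nat_lit 12)], []),
  ([(nat_lit 13), (nat_lit 13)], []),
  ([(nat_lit 14), (nat_lit 14)], []),
  ([(nat_lit 15), (nat_lit 15)], []),
  ([(nat_lit 16), (nat_lit 16)], []),
  ([(nat_lit 17), (nat_lit 17)], []),
  ([(nat_lit 1), (nat_lit 0)], [(nat_lit 0), (nat_lit 1), (nat_lit 8)]),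
  ([(nat_lit 2), (nat_lit 0)], [(nat_lit 0), (nat_lit 2)]),
  ([(nat_lit 2), (nat_lit 1)], [(nat_lit 1), (nat_lit 2), (nat_lit 9)]),
  ([(nat_lit 3), (nat_lit 0)], [(nat_lit 0), (nat_lit 3)]),
  ([(nat_lit 3), (nat_lit 1)], [(nat_lit 1), (nat_lit 3)]),
  ([(nat_lit 3), (nat_lit 2)], [(nat_lit 2), (nat_lit 3), (nat_lit 10)]),
  ([(nat_lit 8), (nat_lit 0)], [(nat_lit 0), (nat_lit 8)]),
  ([(nat_lit 8), (nat_lit 1)], [(nat_lit 1), (nat_lit 8)]),
  ([(nat_lit 8), (nat_lit 2)], [(nat_lit 2), (nat_lit 8), (nat_lit 11)]),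
  ([(nat_lit 8), (nat_lit 3)], [(nat_lit 3), (nat_lit 8)]),
  ([(nat_lit 9), (nat_lit 0)], [(nat_lit 0), (nat_lit 9), (nat_lit 11)]),
  ([(nat_lit 9), (nat_lit 1)], [(nat_lit 1), (nat_lit 9)]),
  ([(nat_lit 9), (nat_lit 2)], [(nat_lit 2), (nat_lit 9)]),
  ([(nat_lit 9), (nat_lit 3)], [(nat_lit 3), (nat_lit 9), (nat_lit 12)]),
  ([(nat_lit 9), (nat_lit 8)], [(nat_lit 8), (nat_lit 9)]),
  ([(nat_lit 10), (nat_lit 0)], [(nat_lit 0), (nat_lit 10)]),
  ([(nat_lit 10), (nat_lit 1)], [(nat_lit 1), (nat_lit 10), (nat_lit 12)]),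
  ([(nat_lit 10), (nat_lit 2)], [(nat_lit 2), (nat_lit 10)]),
  ([(nat_lit 10), (nat_lit 3)], [(nat_lit 3), (nat_lit 10)]),
  ([(nat_lit 10), (nat_lit 8)], [(nat_lit 8), (nat_lit 10), (nat_lit 13)]),
  ([(nat_lit 10), (nat_lit 9)], [(nat_lit 9), (nat_lit 10)]),
  ([(nat_lit 11), (nat_lit 0)], [(nat_lit 0), (nat_lit 11)]),
  ([(nat_lit 11), (nat_lit 1)], [(nat_lit 1), (nat_lit 11)]),
  ([(nat_lit 11), (nat_lit 2)], [(nat_lit 2), (nat_lit 11)]),
  ([(nat_lit 11), (nat_lit 3)], [(nat_lit 3), (nat_lit 11), (nat_lit 13)]),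
  ([(nat_lit 11), (nat_lit 8)], [(nat_lit 8), (nat_lit 11)]),
  ([(nat_lit 11), (nat_lit 9)], [(nat_lit 9), (nat_lit 11)]),
  ([(nat_lit 11), (nat_lit 10)], [(nat_lit 10), (nat_lit 11)]),
  ([(nat_lit 12), (nat_lit 0)], [(nat_lit 0), (nat_lit 12), (nat_lit 13)]),
  ([(nat_lit 12), (nat_lit 1)], [(nat_lit 1), (nat_lit 12)]),
  ([(nat_lit 12), (nat_lit 2)], [(nat_lit 2), (nat_lit 12)]),
  ([(nat_lit 12), (nat_lit 3)], [(nat_lit 3), (nat_lit 12)]),
  ([(nat_lit 12), (nat_lit 8)], [(nat_lit 8), (nat_lit 12)]),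
  ([(nat_lit 12), (nat_lit 9)], [(nat_lit 9), (nat_lit 12)]),
  ([(nat_lit 12), (nat_lit 10)], [(nat_lit 10), (nat_lit 12)]),
  ([(nat_lit 12), (nat_lit 11)], [(nat_lit 11), (nat_lit 12)]),
  ([(nat_lit 13), (nat_lit 0)], [(nat_lit 0), (nat_lit 13)]),
  ([(nat_lit 13), (nat_lit 1)], [(nat_lit 1), (nat_lit 13)]),
  ([(nat_lit 13), (nat_lit 2)], [(nat_lit 2), (nat_lit 13)]),
  ([(nat_lit 13), (nat_lit 3)], [(nat_lit 3), (nat_lit 13)]),
  ([(nat_lit 13), (nat_lit 8)], [(nat_lit 8), (nat_lit 13)]),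
  ([(nat_lit 13), (nat_lit 9)], [(nat_lit 9), (nat_lit 13)]),
  ([(nat_lit 13), (nat_lit 10)], [(nat_lit 10), (nat_lit 13)]),
  ([(nat_lit 13), (nat_lit 11)], [(nat_lit 11), (nat_lit 13)]),
  ([(nat_lit 13), (nat_lit 12)], [(nat_lit 12), (nat_lit 13)]),
  ([(nat_lit 14), (nat_lit 1)], [(nat_lit 8), (nat_lit 14)]),
  ([(nat_lit 14), (nat_lit 2)], [(nat_lit 2), (nat_lit 14)]),
  ([(nat_lit 14), (nat_lit 3)], [(nat_lit 3), (nat_lit 14)]),
  ([(nat_lit 14), (nat_lit 8)], [(nat_lit 1), (nat_lit 14)]),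
  ([(nat_lit 14), (nat_lit 9)], [(nat_lit 11), (nat_lit 14)]),
  ([(nat_lit 14), (nat_lit 10)], [(nat_lit 10), (nat_lit 14)]),
  ([(nat_lit 14), (nat_lit 11)], [(nat_lit 9), (nat_lit 14)]),
  ([(nat_lit 14), (nat_lit 12)], [(nat_lit 13), (nat_lit 14)]),
  ([(nat_lit 14), (nat_lit 13)], [(nat_lit 12), (nat_lit 14)]),
  ([(nat_lit 15), (nat_lit 0)], [(nat_lit 8), (nat_lit 15)]),
  ([(nat_lit 15), (nat_lit 2)], [(nat_lit 9), (nat_lit 15)]),
  ([(nat_lit 15), (nat_lit 3)], [(nat_lit 3), (nat_lit 15)]),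
  ([(nat_lit 15), (nat_lit 8)], [(nat_lit 0), (nat_lit 15)]),
  ([(nat_lit 15), (nat_lit 9)], [(nat_lit 2), (nat_lit 15)]),
  ([(nat_lit 15), (nat_lit 10)], [(nat_lit 12), (nat_lit 15)]),
  ([(nat_lit 15), (nat_lit 11)], [(nat_lit 11), (nat_lit 15)]),
  ([(nat_lit 15), (nat_lit 12)], [(nat_lit 10), (nat_lit 15)]),
  ([(nat_lit 15), (nat_lit 13)], [(nat_lit 13), (nat_lit 15)]),
  ([(nat_lit 16), (nat_lit 0)], [(nat_lit 0), (nat_lit 16)]),
  ([(nat_lit 16), (nat_lit 1)], [(nat_lit 9), (nat_lit 16)]),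
  ([(nat_lit 16), (nat_lit 3)], [(nat_lit 10), (nat_lit 16)]),
  ([(nat_lit 16), (nat_lit 8)], [(nat_lit 11), (nat_lit 16)]),
  ([(nat_lit 16), (nat_lit 9)], [(nat_lit 1), (nat_lit 16)]),
  ([(nat_lit 16), (nat_lit 10)], [(nat_lit 3), (nat_lit 16)]),
  ([(nat_lit 16), (nat_lit 11)], [(nat_lit 8), (nat_lit 16)]),
  ([(nat_lit 16), (nat_lit 12)], [(nat_lit 12), (nat_lit 16)]),
  ([(nat_lit 16), (nat_lit 13)], [(nat_lit 13), (nat_lit 16)]),
  ([(nat_lit 17), (nat_lit 0)], [(nat_lit 0), (nat_lit 17)]),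
  ([(nat_lit 17), (nat_lit 1)], [(nat_lit 1), (nat_lit 17)]),
  ([(nat_lit 17), (nat_lit 2)], [(nat_lit 10), (nat_lit 17)]),
  ([(nat_lit 17), (nat_lit 8)], [(nat_lit 8), (nat_lit 17)]),
  ([(nat_lit 17), (nat_lit 9)], [(nat_lit 12), (nat_lit 17)]),
  ([(nat_lit 17), (nat_lit 10)], [(nat_lit 2), (nat_lit 17)]),
  ([(nat_lit 17), (nat_lit 11)], [(nat_lit 13), (nat_lit 17)]),
  ([(nat_lit 17), (nat_lit 12)], [(nat_lit 9), (nat_lit 17)]),
  ([(nat_lit 17), (nat_lit 13)], [(nat_lit 11), (nat_lit 17)]),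
  ([(nat_lit 14), (nat_lit 0), (nat_lit 14)], [(nat_lit 0), (nat_lit 14), (nat_lit 0)]),
  ([(nat_lit 15), (nat_lit 1), (nat_lit 15)], [(nat_lit 1), (nat_lit 15), (nat_lit 1)]),
  ([(nat_lit 16), (nat_lit 2), (nat_lit 16)], [(nat_lit 2), (nat_lit 16), (nat_lit 2)]),
  ([(nat_lit 17), (nat_lit 3), (nat_lit 17)], [(nat_lit 3), (nat_lit 17), (nat_lit 3)]),
  ([(nat_lit 15), (nat_lit 14), (nat_lit 15)], [(nat_lit 14), (nat_lit 15), (nat_lit 14)]),
  ([(nat_lit 16), (nat_lit 14)], [(nat_lit 14), (nat_lit 16)]),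
  ([(nat_lit 16), (nat_lit 15), (nat_lit 16)], [(nat_lit 15), (nat_lit 16), (nat_lit 15)]),
  ([(nat_lit 17), (nat_lit 14)], [(nat_lit 14), (nat_lit 17)]),
  ([(nat_lit 17), (nat_lit 15)], [(nat_lit 15), (nat_lit 17)]),
  ([(nat_lit 17), (nat_lit 16), (nat_lit 17)], [(nat_lit 16), (nat_lit 17), (nat_lit 16)]),
  ([(nat_lit 6)], [(nat_lit 0), (nat_lit 14), (nat_lit 0)]),
  ([(nat_lit 4)], [(nat_lit 1), (nat_lit 15), (nat_lit 1)]),
  ([(nat_lit 5)], [(nat_lit 2), (nat_lit 16), (nat_lit 2)]),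
  ([(nat_lit 7)], [(nat_lit 3), (nat_lit 17), (nat_lit 3)]),
  ([(nat_lit 0), (nat_lit 0)], []),
  ([(nat_lit 1), (nat_lit 1)], []),
  ([(nat_lit 2), (nat_lit 2)], []),
  ([(nat_lit 3), (nat_lit 3)], []),
  ([(nat_lit 4), (nat_lit 4)], []),
  ([(nat_lit 5), (nat_lit 5)], []),
  ([(nat_lit 6), (nat_lit 6)], []),
  ([(nat_lit 7), (nat_lit 7)], []),
  ([(nat_lit 0), (nat_lit 2), (nat_lit 0), (nat_lit 2)], []),
  ([(nat_lit 0), (nat_lit 3), (nat_lit 0), (nat_lit 3)], []),
  ([(nat_lit 0), (nat_lit 4), (nat_lit 0), (nat_lit 4)], []),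
  ([(nat_lit 0), (nat_lit 5), (nat_lit 0), (nat_lit 5)], []),
  ([(nat_lit 0), (nat_lit 7), (nat_lit 0), (nat_lit 7)], []),
  ([(nat_lit 1), (nat_lit 3), (nat_lit 1), (nat_lit 3)], []),
  ([(nat_lit 1), (nat_lit 5), (nat_lit 1), (nat_lit 5)], []),
  ([(nat_lit 1), (nat_lit 6), (nat_lit 1), (nat_lit 6)], []),
  ([(nat_lit 1), (nat_lit 7), (nat_lit 1), (nat_lit 7)], []),
  ([(nat_lit 2), (nat_lit 4), (nat_lit 2), (nat_lit 4)], []),
  ([(nat_lit 2), (nat_lit 6), (nat_lit 2), (nat_lit 6)], []),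
  ([(nat_lit 2), (nat_lit 7), (nat_lit 2), (nat_lit 7)], []),
  ([(nat_lit 3), (nat_lit 4), (nat_lit 3), (nat_lit 4)], []),
  ([(nat_lit 3), (nat_lit 5), (nat_lit 3), (nat_lit 5)], []),
  ([(nat_lit 3), (nat_lit 6), (nat_lit 3), (nat_lit 6)], []),
  ([(nat_lit 4), (nat_lit 7), (nat_lit 4), (nat_lit 7)], []),
  ([(nat_lit 5), (nat_lit 6), (nat_lit 5), (nat_lit 6)], []),
  ([(nat_lit 6), (nat_lit 7), (nat_lit 6), (nat_lit 7)], []),
  ([(nat_lit 0), (nat_lit 6), (nat_lit 0), (nat_lit 6), (nat_lit 0), (nat_lit 6)], []),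
  ([(nat_lit 1), (nat_lit 4), (nat_lit 1), (nat_lit 4), (nat_lit 1), (nat_lit 4)], []),
  ([(nat_lit 2), (nat_lit 5), (nat_lit 2), (nat_lit 5), (nat_lit 2), (nat_lit 5)], []),
  ([(nat_lit 3), (nat_lit 7), (nat_lit 3), (nat_lit 7), (nat_lit 3), (nat_lit 7)], []),
  ([(nat_lit 0), (nat_lit 1), (nat_lit 0), (nat_lit 1), (nat_lit 0), (nat_lit 1), (nat_lit 0), (nat_lit 1)], []),
  ([(nat_lit 1), (nat_lit 2), (nat_lit 1), (nat_lit 2), (nat_lit 1), (nat_lit 2), (nat_lit 1), (nat_lit 2)], []),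
  ([(nat_lit 2), (nat_lit 3), (nat_lit 2), (nat_lit 3), (nat_lit 2), (nat_lit 3), (nat_lit 2), (nat_lit 3)], []),
  ([(nat_lit 4), (nat_lit 5), (nat_lit 4), (nat_lit 5), (nat_lit 4), (nat_lit 5), (nat_lit 4), (nat_lit 5)], []),
  ([(nat_lit 4), (nat_lit 6), (nat_lit 4), (nat_lit 6), (nat_lit 4), (nat_lit 6), (nat_lit 4), (nat_lit 6)], []),
  ([(nat_lit 5), (nat_lit 7), (nat_lit 5), (nat_lit 7), (nat_lit 5), (nat_lit 7), (nat_lit 5), (nat_lit 7)], []),
  ([(nat_lit 0), (nat_lit 1), (nat_lit 0), (nat_lit 1), (nat_lit 4), (nat_lit 1), (nat_lit 0), (nat_lit 1), (nat_lit 4)], []),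
  ([(nat_lit 0), (nat_lit 1), (nat_lit 0), (nat_lit 1), (nat_lit 6), (nat_lit 0), (nat_lit 1), (nat_lit 0), (nat_lit 6)], []),
  ([(nat_lit 0), (nat_lit 1), (nat_lit 0), (nat_lit 4), (nat_lit 1), (nat_lit 0), (nat_lit 4), (nat_lit 1), (nat_lit 4)], []),
  ([(nat_lit 0), (nat_lit 1), (nat_lit 6), (nat_lit 0), (nat_lit 1), (nat_lit 6), (nat_lit 0), (nat_lit 1), (nat_lit 6)], []),
  ([(nat_lit 0), (nat_lit 1), (nat_lit 6), (nat_lit 0), (nat_lit 1), (nat_lit 6), (nat_lit 0), (nat_lit 6), (nat_lit 1)], []),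
  ([(nat_lit 0), (nat_lit 4), (nat_lit 6), (nat_lit 0), (nat_lit 4), (nat_lit 6), (nat_lit 0), (nat_lit 4), (nat_lit 6)], []),
  ([(nat_lit 0), (nat_lit 4), (nat_lit 6), (nat_lit 0), (nat_lit 4), (nat_lit 6), (nat_lit 4), (nat_lit 0), (nat_lit 6)], []),
  ([(nat_lit 0), (nat_lit 4), (nat_lit 6), (nat_lit 4), (nat_lit 6), (nat_lit 0), (nat_lit 6), (nat_lit 4), (nat_lit 6)], []),
  ([(nat_lit 1), (nat_lit 2), (nat_lit 1), (nat_lit 2), (nat_lit 4), (nat_lit 1), (nat_lit 2), (nat_lit 1), (nat_lit 4)], []),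
  ([(nat_lit 1), (nat_lit 2), (nat_lit 1), (nat_lit 2), (nat_lit 5), (nat_lit 2), (nat_lit 1), (nat_lit 2), (nat_lit 5)], []),
  ([(nat_lit 1), (nat_lit 2), (nat_lit 1), (nat_lit 5), (nat_lit 2), (nat_lit 1), (nat_lit 5), (nat_lit 2), (nat_lit 5)], []),
  ([(nat_lit 1), (nat_lit 2), (nat_lit 4), (nat_lit 1), (nat_lit 2), (nat_lit 4), (nat_lit 1), (nat_lit 2), (nat_lit 4)], []),
  ([(nat_lit 1), (nat_lit 2), (nat_lit 4), (nat_lit 1), (nat_lit 2), (nat_lit 4), (nat_lit 1), (nat_lit 4), (nat_lit 2)], []),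
  ([(nat_lit 1), (nat_lit 4), (nat_lit 1), (nat_lit 5), (nat_lit 4), (nat_lit 1), (nat_lit 5), (nat_lit 4), (nat_lit 5)], []),
  ([(nat_lit 1), (nat_lit 4), (nat_lit 1), (nat_lit 6), (nat_lit 4), (nat_lit 1), (nat_lit 6), (nat_lit 4), (nat_lit 6)], []),
  ([(nat_lit 1), (nat_lit 4), (nat_lit 5), (nat_lit 4), (nat_lit 1), (nat_lit 4), (nat_lit 5), (nat_lit 4), (nat_lit 5)], []),
  ([(nat_lit 1), (nat_lit 4), (nat_lit 6), (nat_lit 4), (nat_lit 1), (nat_lit 4), (nat_lit 6), (nat_lit 4), (nat_lit 6)], []),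
  ([(nat_lit 2), (nat_lit 3), (nat_lit 2), (nat_lit 3), (nat_lit 5), (nat_lit 2), (nat_lit 3), (nat_lit 2), (nat_lit 5)], []),
  ([(nat_lit 2), (nat_lit 3), (nat_lit 2), (nat_lit 3), (nat_lit 7), (nat_lit 3), (nat_lit 2), (nat_lit 3), (nat_lit 7)], []),
  ([(nat_lit 2), (nat_lit 3), (nat_lit 2), (nat_lit 7), (nat_lit 3), (nat_lit 2), (nat_lit 7), (nat_lit 3), (nat_lit 7)], []),
  ([(nat_lit 2), (nat_lit 3), (nat_lit 5), (nat_lit 2), (nat_lit 3), (nat_lit 5), (nat_lit 2), (nat_lit 3), (nat_lit 5)], []),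
  ([(nat_lit 2), (nat_lit 5), (nat_lit 2), (nat_lit 7), (nat_lit 5), (nat_lit 2), (nat_lit 7), (nat_lit 5), (nat_lit 7)], []),
  ([(nat_lit 0), (nat_lit 1), (nat_lit 2), (nat_lit 0), (nat_lit 1), (nat_lit 2), (nat_lit 0), (nat_lit 1), (nat_lit 2), (nat_lit 0), (nat_lit 1), (nat_lit 2)], []),
  ([(nat_lit 1), (nat_lit 2), (nat_lit 3), (nat_lit 1), (nat_lit 2), (nat_lit 3), (nat_lit 1), (nat_lit 2), (nat_lit 3), (nat_lit 1), (nat_lit 2), (nat_lit 3)], [])]
noncomputable def JR : List ℕ := [(nat_lit 0), (nat_lit 1), (nat_lit 2), (nat_lit 3), (nat_lit 4), (nat_lit 5), (nat_lit 6), (nat_lit 7), (nat_lit 8), (nat_lit 9), (nat_lit 10), (nat_lit 11),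
  (nat_lit 12), (nat_lit 13), (nat_lit 14), (nat_lit 15), (nat_lit 16), (nat_lit 17), (nat_lit 18), (nat_lit 19), (nat_lit 22), (nat_lit 24), (nat_lit 27), (nat_lit 30),
  (nat_lit 33), (nat_lit 59), (nat_lit 60), (nat_lit 61), (nat_lit 68), (nat_lit 69), (nat_lit 70), (nat_lit 77), (nat_lit 78), (nat_lit 79), (nat_lit 86), (nat_lit 87),
  (nat_lit 88), (nat_lit 95), (nat_lit 97), (nat_lit 98), (nat_lit 105), (nat_lit 106), (nat_lit 107), (nat_lit 108)]
noncomputable def J0 : List (ℕ × ℕ) := [((nat_lit 3), (nat_lit 13835058055282163716)),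
  ((nat_lit 6), (nat_lit 23567578056518233060623089979739644766309828919840)),
  ((nat_lit 8), (nat_lit 182838235377018005476540835604141620352172687488)),
  ((nat_lit 12), (nat_lit 1496586242998643147720083766034829300786157546637312)),
  ((nat_lit 15), (nat_lit 9299846522319196804990953203520840067987985056)),
  ((nat_lit 19), (nat_lit 844424930394112)),
  ((nat_lit 21), (nat_lit 2166319391470621808280680484378345347749173920)),
  ((nat_lit 27), (nat_lit 664613997892458047312511957525856288)),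
  ((nat_lit 28), (nat_lit 91494383043836572454366262983110503907305979904)),
  ((nat_lit 34), (nat_lit 738799339948343345068456248354256868115405472)),
  ((nat_lit 35), (nat_lit 436455013909160262708202214202613183320424)),
  ((nat_lit 36), (nat_lit 11692029824206122243596834889081453062727904788480)),
  ((nat_lit 43), (nat_lit 88005870182119278539558255421740884201832)),
  ((nat_lit 46), (nat_lit 332306998965571781339785831865384960)),
  ((nat_lit 49), (nat_lit 154742504910672534362390528)),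
  ((nat_lit 52), (nat_lit 11085771871978932888098965494507980719104)),
  ((nat_lit 57), (nat_lit 19807040628566084398385987584)),
  ((nat_lit 59), (nat_lit 79228162514264337593543950336)),
  ((nat_lit 64), (nat_lit 893251944627755607007473203006650487144)),
  ((nat_lit 67), (nat_lit 167329879272627579343395925000192)),
  ((nat_lit 68), (nat_lit 212687302056721962626371656089376166248)),
  ((nat_lit 73), (nat_lit 1298074214633706907132624082305024)),
  ((nat_lit 78), (nat_lit 20769187434139310514121985316880384)),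
  ((nat_lit 79), (nat_lit 41538374868278621028243970633760768)),
  ((nat_lit 85), (nat_lit 1329227995784915872903807060280344576)),
  ((nat_lit 87), (nat_lit 2658455991569831745807614120560689152)),
  ((nat_lit 89), (nat_lit 10633823966279326983230456482242756608)),
  ((nat_lit 96), (nat_lit 1361129467683753853853498429727072845824)),
  ((nat_lit 98), (nat_lit 2722258935367507707706996859454145691648)),
  ((nat_lit 99), (nat_lit 5444517870735015415413993718908291383296)),
  ((nat_lit 102), (nat_lit 11150372599265311570767863748010199180378116)),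
  ((nat_lit 105), (nat_lit 44601490397061246283071547225761165269270528)),
  ((nat_lit 107), (nat_lit 178405961588244985132286188903044661077082112)),
  ((nat_lit 111), (nat_lit 2854495385411919762116571938898996869835259904)),
  ((nat_lit 114), (nat_lit 22835963083295358096932575511191974958682079232)),
  ((nat_lit 118), (nat_lit 365375409332725729550921208179070754913983397888)),
  ((nat_lit 120), (nat_lit 1461501637330902918203684832716286397355653070848)),
  ((nat_lit 125), (nat_lit 46768147172755987554090107394496193604261228577028)),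
  ((nat_lit 126), (nat_lit 93536104789177786765035829293842473545949872390144)),
  ((nat_lit 131), (nat_lit 2993155356041324871999488276438901118784621535827968)),
  ((nat_lit 132), (nat_lit 5986310706507378352962293074848396546856526502952960)),
  ((nat_lit 133), (nat_lit 11972621413014756705924586149696793093713053005905920)),
  ((nat_lit 142), (nat_lit 174224571868591100529863995069568835911680)),
  ((nat_lit 145), (nat_lit 748288838313422460274103058800905420950935988928512)),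
  ((nat_lit 148), (nat_lit 25088380977125912706895112730135138259884192)),
  ((nat_lit 140), (nat_lit 21820619760816215055851302424203736645632)),
  ((nat_lit 143), (nat_lit 42546118596252747422967044618421049704)),
  ((nat_lit 146), (nat_lit 83076789369981865704865792696402080)),
  ((nat_lit 149), (nat_lit 442721857769029238912)),
  ((nat_lit 151), (nat_lit 10822732373379529330598964349147497)),
  ((nat_lit 153), (nat_lit 40564819249804639193725608656896)),
  ((nat_lit 158), (nat_lit 89202980794122492566142947021684929105756160)),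
  ((nat_lit 161), (nat_lit 21267647935034555295680846429834706944)),
  ((nat_lit 165), (nat_lit 39614081367812633239029415968)),
  ((nat_lit 168), (nat_lit 166153499511800110881075971510829056)),
  ((nat_lit 162), (nat_lit 1024)),
  ((nat_lit 163), (nat_lit 85070672869776635789405081508352360448)),
  ((nat_lit 167), (nat_lit 52776558149632)),
  ((nat_lit 169), (nat_lit 360287970256748544)),
  ((nat_lit 174), (nat_lit 18)),
  ((nat_lit 178), (nat_lit 137438953472)),
  ((nat_lit 176), (nat_lit 5575186299632655785421708500025086192910340)),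
  ((nat_lit 185), (nat_lit 18889465931497908207616)),
  ((nat_lit 186), (nat_lit 10141204801825835211973625651200)),
  ((nat_lit 189), (nat_lit 766247770432944429179173513575759054719177700312875008)),
  ((nat_lit 195), (nat_lit 42501298345831106084864)),
  ((nat_lit 191), (nat_lit 5317339979353179554537988275553483113)),
  ((nat_lit 196), (nat_lit 81129638414606681695789005144064)),
  ((nat_lit 197), (nat_lit 4194304)),
  ((nat_lit 194), (nat_lit 346867813041495526444519248148840)),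
  ((nat_lit 198), (nat_lit 8388608)),
  ((nat_lit 199), (nat_lit 649037107316853453566312041152512)),
  ((nat_lit 202), (nat_lit 5192296858534827628530496329220096)),
  ((nat_lit 206), (nat_lit 19342813113834066812076032)),
  ((nat_lit 207), (nat_lit 38685626407812118719037440)),
  ((nat_lit 201), (nat_lit 2596148429267413814265248164610048)),
  ((nat_lit 203), (nat_lit 3377699721576448)),
  ((nat_lit 208), (nat_lit 16777216)),
  ((nat_lit 209), (nat_lit 180143985128374272)),
  ((nat_lit 213), (nat_lit 1)),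
  ((nat_lit 219), (nat_lit 110680464442257309728)),
  ((nat_lit 222), (nat_lit 1237940039285380275972866048)),
  ((nat_lit 224), (nat_lit 2475882439754002001800724480)),
  ((nat_lit 228), (nat_lit 340282366920938463463374607431768211456)),
  ((nat_lit 226), (nat_lit 9903605316879733861396774912)),
  ((nat_lit 225), (nat_lit 1073741824)),
  ((nat_lit 227), (nat_lit 2361183241452002476032)),
  ((nat_lit 229), (nat_lit 85002596691662203781120)),
  ((nat_lit 237), (nat_lit 6597069768704)),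
  ((nat_lit 239), (nat_lit 8192)),
  ((nat_lit 247), (nat_lit 5070607236616196064503511646208)),
  ((nat_lit 243), (nat_lit 2535303618308098032251755823104)),
  ((nat_lit 245), (nat_lit 43556142965880123323311949751266331066368)),
  ((nat_lit 244), (nat_lit 1267651809154049016125877911552)),
  ((nat_lit 246), (nat_lit 1208925819614629174706176)),
  ((nat_lit 248), (nat_lit 2417851639229258349412352)),
  ((nat_lit 249), (nat_lit 4835703278458516698824704)),
  ((nat_lit 252), (nat_lit 2787593149816327892691967089924054401941504)),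
  ((nat_lit 256), (nat_lit 65536)),
  ((nat_lit 255), (nat_lit 20445817688837341765925053960192)),
  ((nat_lit 259), (nat_lit 706012867734070193551311176)),
  ((nat_lit 268), (nat_lit 36028797153181696)),
  ((nat_lit 261), (nat_lit 1393796574908163946345983544962027200970752)),
  ((nat_lit 275), (nat_lit 4722366482904004952064)),
  ((nat_lit 283), (nat_lit 9671406556917033397649408)),
  ((nat_lit 289), (nat_lit 309485009821345068724781056)),
  ((nat_lit 286), (nat_lit 77371252455336267181195264)),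
  ((nat_lit 288), (nat_lit 189079126755522904392)),
  ((nat_lit 291), (nat_lit 163408085185670216077893734400)),
  ((nat_lit 298), (nat_lit 633825300114114982223328837632)),
  ((nat_lit 299), (nat_lit 316912650057057350374175801344)),
  ((nat_lit 306), (nat_lit 11417981541647679048466287755595969887154995200)),
  ((nat_lit 308), (nat_lit 274877906944)),
  ((nat_lit 313), (nat_lit 5846006549323611672814739330865136582223357542400)),
  ((nat_lit 316), (nat_lit 41505174165846491208)),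
  ((nat_lit 327), (nat_lit 131072)),
  ((nat_lit 322), (nat_lit 4951760157141521099596496896)),
  ((nat_lit 325), (nat_lit 19791209336832)),
  ((nat_lit 329), (nat_lit 281474977234944)),
  ((nat_lit 336), (nat_lit 9444732965808009904128)),
  ((nat_lit 344), (nat_lit 2)),
  ((nat_lit 348), (nat_lit 191561942608236107294793378393939763679794218919788544)),
  ((nat_lit 346), (nat_lit 4611686018427387912)),
  ((nat_lit 352), (nat_lit 2199023259648)),
  ((nat_lit 359), (nat_lit 383123885216472214589586756787879527359588437839577088)),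
  ((nat_lit 368), (nat_lit 72057594306363392)),
  ((nat_lit 361), (nat_lit 1125899908939776)),
  ((nat_lit 379), (nat_lit 512)),
  ((nat_lit 389), (nat_lit 536870912)),
  ((nat_lit 399), (nat_lit 549755813888)),
  ((nat_lit 401), (nat_lit 2305843009213693952)),
  ((nat_lit 403), (nat_lit 12)),
  ((nat_lit 404), (nat_lit 18446744073709551616)),
  ((nat_lit 406), (nat_lit 96)),
  ((nat_lit 408), (nat_lit 384)),
  ((nat_lit 400), (nat_lit 1152921504606846976)),
  ((nat_lit 409), (nat_lit 590295810358705651712)),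
  ((nat_lit 407), (nat_lit 128)),
  ((nat_lit 402), (nat_lit 4)),
  ((nat_lit 405), (nat_lit 32)),
  ((nat_lit 410), (nat_lit 1099511627776)),
  ((nat_lit 412), (nat_lit 6144)),
  ((nat_lit 415), (nat_lit 49152)),
  ((nat_lit 416), (nat_lit 70368744177664)),
  ((nat_lit 419), (nat_lit 786432)),
  ((nat_lit 417), (nat_lit 140737488355328)),
  ((nat_lit 413), (nat_lit 8796093022208)),
  ((nat_lit 414), (nat_lit 16384)),
  ((nat_lit 411), (nat_lit 2048)),
  ((nat_lit 418), (nat_lit 262144)),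
  ((nat_lit 421), (nat_lit 3145728)),
  ((nat_lit 428), (nat_lit 335544320)),
  ((nat_lit 423), (nat_lit 9007199254740992)),
  ((nat_lit 427), (nat_lit 167772160)),
  ((nat_lit 424), (nat_lit 18014398509481984)),
  ((nat_lit 422), (nat_lit 4503599627370496)),
  ((nat_lit 420), (nat_lit 1048576)),
  ((nat_lit 426), (nat_lit 67108864)),
  ((nat_lit 429), (nat_lit 576460752303423488)),
  ((nat_lit 425), (nat_lit 33554432)),
  ((nat_lit 435), (nat_lit 38654705664)),
  ((nat_lit 436), (nat_lit 77309411328)),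
  ((nat_lit 434), (nat_lit 19327352832)),
  ((nat_lit 430), (nat_lit 1180591620717411303424)),
  ((nat_lit 439), (nat_lit 604462909807314587353088)),
  ((nat_lit 432), (nat_lit 4294967296)),
  ((nat_lit 437), (nat_lit 151115727451828646838272)),
  ((nat_lit 438), (nat_lit 302231454903657293676544)),
  ((nat_lit 433), (nat_lit 8589934592)),
  ((nat_lit 431), (nat_lit 2147483648))]
noncomputable def lps : List (List ℕ × List ℕ) := [([(nat_lit 12), (nat_lit 12), (nat_lit 8)], [(nat_lit 16), (nat_lit 529), (nat_lit 93), (nat_lit 605)]),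
  ([(nat_lit 12), (nat_lit 12), (nat_lit 11)], [(nat_lit 16), (nat_lit 529), (nat_lit 99), (nat_lit 611)]),
  ([(nat_lit 13), (nat_lit 13), (nat_lit 9)], [(nat_lit 18), (nat_lit 531), (nat_lit 111), (nat_lit 623)]),
  ([(nat_lit 13), (nat_lit 13), (nat_lit 3)], [(nat_lit 18), (nat_lit 531), (nat_lit 107), (nat_lit 619)]),
  ([(nat_lit 16), (nat_lit 16), (nat_lit 0)], [(nat_lit 24), (nat_lit 537), (nat_lit 155), (nat_lit 667)]),
  ([(nat_lit 15), (nat_lit 15), (nat_lit 1), (nat_lit 15)], [(nat_lit 22), (nat_lit 1027), (nat_lit 193), (nat_lit 705)]),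
  ([(nat_lit 14), (nat_lit 14), (nat_lit 3)], [(nat_lit 20), (nat_lit 533), (nat_lit 123), (nat_lit 635)]),
  ([(nat_lit 17), (nat_lit 17), (nat_lit 1)], [(nat_lit 26), (nat_lit 539), (nat_lit 175), (nat_lit 687)]),
  ([(nat_lit 3), (nat_lit 1), (nat_lit 0)], [(nat_lit 36), (nat_lit 546), (nat_lit 28), (nat_lit 1070), (nat_lit 549), (nat_lit 35), (nat_lit 541)]),
  ([(nat_lit 14), (nat_lit 3), (nat_lit 1)], [(nat_lit 122), (nat_lit 630), (nat_lit 47), (nat_lit 635), (nat_lit 119), (nat_lit 549)]),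
  ([(nat_lit 15), (nat_lit 3), (nat_lit 0)], [(nat_lit 140), (nat_lit 648), (nat_lit 47), (nat_lit 653), (nat_lit 137), (nat_lit 547)]),
  ([(nat_lit 9), (nat_lit 8), (nat_lit 3)], [(nat_lit 56), (nat_lit 566), (nat_lit 46), (nat_lit 569), (nat_lit 1117), (nat_lit 55), (nat_lit 559)]),
  ([(nat_lit 16), (nat_lit 12), (nat_lit 0)], [(nat_lit 168), (nat_lit 666), (nat_lit 84), (nat_lit 1195), (nat_lit 681), (nat_lit 155), (nat_lit 597)]),
  ([(nat_lit 14), (nat_lit 9), (nat_lit 8)], [(nat_lit 126), (nat_lit 636), (nat_lit 72), (nat_lit 639), (nat_lit 125), (nat_lit 569)]),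
  ([(nat_lit 16), (nat_lit 11), (nat_lit 11)], [(nat_lit 166), (nat_lit 678), (nat_lit 8), (nat_lit 527)]),
  ([(nat_lit 15), (nat_lit 0), (nat_lit 0)], [(nat_lit 136), (nat_lit 648), (nat_lit 8), (nat_lit 513)]),
  ([(nat_lit 17), (nat_lit 9), (nat_lit 9)], [(nat_lit 180), (nat_lit 692), (nat_lit 16), (nat_lit 523)]),
  ([(nat_lit 15), (nat_lit 10), (nat_lit 10)], [(nat_lit 146), (nat_lit 658), (nat_lit 16), (nat_lit 525)]),
  ([(nat_lit 16), (nat_lit 10), (nat_lit 10)], [(nat_lit 164), (nat_lit 676), (nat_lit 6), (nat_lit 525)]),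
  ([(nat_lit 17), (nat_lit 10), (nat_lit 10)], [(nat_lit 182), (nat_lit 694), (nat_lit 4), (nat_lit 525)]),
  ([(nat_lit 17), (nat_lit 3), (nat_lit 17), (nat_lit 17)], [(nat_lit 196), (nat_lit 708), (nat_lit 6), (nat_lit 1051)]),
  ([(nat_lit 7), (nat_lit 7)], [(nat_lit 216), (nat_lit 1752), (nat_lit 1030), (nat_lit 538), (nat_lit 6), (nat_lit 233)]),
  ([(nat_lit 2), (nat_lit 2)], [(nat_lit 4), (nat_lit 223)]),
  ([(nat_lit 3), (nat_lit 3)], [(nat_lit 6), (nat_lit 225)]),
  ([(nat_lit 16), (nat_lit 1), (nat_lit 1)], [(nat_lit 156), (nat_lit 668), (nat_lit 10), (nat_lit 515)]),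
  ([(nat_lit 14), (nat_lit 0), (nat_lit 14), (nat_lit 14)], [(nat_lit 190), (nat_lit 702), (nat_lit 0), (nat_lit 1045)]),
  ([(nat_lit 1), (nat_lit 1)], [(nat_lit 2), (nat_lit 221)]),
  ([(nat_lit 14), (nat_lit 8), (nat_lit 8)], [(nat_lit 124), (nat_lit 636), (nat_lit 2), (nat_lit 521)]),
  ([(nat_lit 0), (nat_lit 0)], [(nat_lit 0), (nat_lit 219)]),
  ([(nat_lit 1), (nat_lit 3), (nat_lit 1), (nat_lit 3)], [(nat_lit 548), (nat_lit 2), (nat_lit 6), (nat_lit 245)]),
  ([(nat_lit 0), (nat_lit 2), (nat_lit 0), (nat_lit 2)], [(nat_lit 542), (nat_lit 0), (nat_lit 4), (nat_lit 235)]),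
  ([(nat_lit 0), (nat_lit 3), (nat_lit 0), (nat_lit 3)], [(nat_lit 546), (nat_lit 0), (nat_lit 6), (nat_lit 237)]),
  ([(nat_lit 4), (nat_lit 4)], [(nat_lit 212), (nat_lit 1748), (nat_lit 1026), (nat_lit 534), (nat_lit 2), (nat_lit 227)]),
  ([(nat_lit 6), (nat_lit 6)], [(nat_lit 210), (nat_lit 1746), (nat_lit 1024), (nat_lit 532), (nat_lit 0), (nat_lit 231)]),
  ([(nat_lit 9), (nat_lit 2), (nat_lit 0)], [(nat_lit 52), (nat_lit 560), (nat_lit 30), (nat_lit 565), (nat_lit 1099), (nat_lit 49), (nat_lit 543)]),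
  ([(nat_lit 14), (nat_lit 14), (nat_lit 1)], [(nat_lit 20), (nat_lit 533), (nat_lit 125), (nat_lit 631)]),
  ([(nat_lit 15), (nat_lit 10), (nat_lit 0)], [(nat_lit 146), (nat_lit 648), (nat_lit 92), (nat_lit 659), (nat_lit 137), (nat_lit 571)]),
  ([(nat_lit 17), (nat_lit 2), (nat_lit 0)], [(nat_lit 176), (nat_lit 684), (nat_lit 58), (nat_lit 689), (nat_lit 173), (nat_lit 543)]),
  ([(nat_lit 16), (nat_lit 3), (nat_lit 0)], [(nat_lit 158), (nat_lit 666), (nat_lit 58), (nat_lit 671), (nat_lit 155), (nat_lit 547)]),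
  ([(nat_lit 8), (nat_lit 8), (nat_lit 2)], [(nat_lit 8), (nat_lit 527), (nat_lit 521), (nat_lit 1103), (nat_lit 45), (nat_lit 557)]),
  ([(nat_lit 11), (nat_lit 1), (nat_lit 0)], [(nat_lit 72), (nat_lit 582), (nat_lit 28), (nat_lit 1103), (nat_lit 585), (nat_lit 71), (nat_lit 541)]),
  ([(nat_lit 8), (nat_lit 2), (nat_lit 0)], [(nat_lit 44), (nat_lit 1094), (nat_lit 552), (nat_lit 30), (nat_lit 557), (nat_lit 41), (nat_lit 543)]),
  ([(nat_lit 9), (nat_lit 0), (nat_lit 0)], [(nat_lit 48), (nat_lit 1094), (nat_lit 560), (nat_lit 0), (nat_lit 526), (nat_lit 513)]),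
  ([(nat_lit 8), (nat_lit 2), (nat_lit 2)], [(nat_lit 44), (nat_lit 1098), (nat_lit 556), (nat_lit 4), (nat_lit 526), (nat_lit 517)]),
  ([(nat_lit 2), (nat_lit 1), (nat_lit 1)], [(nat_lit 32), (nat_lit 1074), (nat_lit 544), (nat_lit 2), (nat_lit 522), (nat_lit 515)]),
  ([(nat_lit 5), (nat_lit 5)], [(nat_lit 214), (nat_lit 1750), (nat_lit 1028), (nat_lit 536), (nat_lit 4), (nat_lit 229)]),
  ([(nat_lit 1), (nat_lit 2), (nat_lit 1), (nat_lit 2), (nat_lit 1), (nat_lit 2), (nat_lit 1), (nat_lit 2)], [(nat_lit 544), (nat_lit 2), (nat_lit 564), (nat_lit 4), (nat_lit 50), (nat_lit 564), (nat_lit 1074), (nat_lit 544), (nat_lit 2), (nat_lit 522), (nat_lit 4), (nat_lit 281)]),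
  ([(nat_lit 3), (nat_lit 2), (nat_lit 2)], [(nat_lit 38), (nat_lit 1086), (nat_lit 550), (nat_lit 4), (nat_lit 524), (nat_lit 517)]),
  ([(nat_lit 3), (nat_lit 3), (nat_lit 2)], [(nat_lit 6), (nat_lit 525), (nat_lit 519), (nat_lit 1089), (nat_lit 39), (nat_lit 551)]),
  ([(nat_lit 15), (nat_lit 10), (nat_lit 3)], [(nat_lit 146), (nat_lit 652), (nat_lit 90), (nat_lit 659), (nat_lit 141), (nat_lit 577)]),
  ([(nat_lit 2), (nat_lit 3), (nat_lit 2), (nat_lit 3), (nat_lit 2), (nat_lit 3), (nat_lit 2), (nat_lit 3)], [(nat_lit 550), (nat_lit 4), (nat_lit 576), (nat_lit 6), (nat_lit 62), (nat_lit 576), (nat_lit 1086), (nat_lit 550), (nat_lit 4), (nat_lit 524), (nat_lit 6), (nat_lit 283)]),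
  ([(nat_lit 1), (nat_lit 2), (nat_lit 1), (nat_lit 2), (nat_lit 5), (nat_lit 2), (nat_lit 1), (nat_lit 2), (nat_lit 5)], [(nat_lit 544), (nat_lit 2), (nat_lit 564), (nat_lit 4), (nat_lit 726), (nat_lit 52), (nat_lit 1540), (nat_lit 1180), (nat_lit 522), (nat_lit 1750), (nat_lit 1028), (nat_lit 536), (nat_lit 4), (nat_lit 309)]),
  ([(nat_lit 16), (nat_lit 16), (nat_lit 1)], [(nat_lit 24), (nat_lit 537), (nat_lit 163), (nat_lit 669)]),
  ([(nat_lit 1), (nat_lit 7), (nat_lit 1), (nat_lit 7)], [(nat_lit 728), (nat_lit 1572), (nat_lit 1198), (nat_lit 548), (nat_lit 2), (nat_lit 1752), (nat_lit 1030), (nat_lit 538), (nat_lit 6), (nat_lit 251)]),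
  ([(nat_lit 17), (nat_lit 11), (nat_lit 8)], [(nat_lit 184), (nat_lit 690), (nat_lit 108), (nat_lit 697), (nat_lit 179), (nat_lit 591)]),
  ([(nat_lit 16), (nat_lit 13), (nat_lit 8)], [(nat_lit 170), (nat_lit 672), (nat_lit 114), (nat_lit 683), (nat_lit 161), (nat_lit 621)]),
  ([(nat_lit 14), (nat_lit 12), (nat_lit 1)], [(nat_lit 132), (nat_lit 630), (nat_lit 108), (nat_lit 645), (nat_lit 119), (nat_lit 599)]),
  ([(nat_lit 16), (nat_lit 12), (nat_lit 1)], [(nat_lit 168), (nat_lit 668), (nat_lit 94), (nat_lit 681), (nat_lit 157), (nat_lit 599)]),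
  ([(nat_lit 15), (nat_lit 15), (nat_lit 0)], [(nat_lit 22), (nat_lit 535), (nat_lit 143), (nat_lit 649)]),
  ([(nat_lit 0), (nat_lit 1), (nat_lit 0), (nat_lit 1), (nat_lit 4), (nat_lit 1), (nat_lit 0), (nat_lit 1), (nat_lit 4)], [(nat_lit 540), (nat_lit 0), (nat_lit 554), (nat_lit 2), (nat_lit 724), (nat_lit 42), (nat_lit 1538), (nat_lit 1160), (nat_lit 520), (nat_lit 1748), (nat_lit 1026), (nat_lit 534), (nat_lit 2), (nat_lit 291)]),
  ([(nat_lit 3), (nat_lit 6), (nat_lit 3), (nat_lit 6)], [(nat_lit 722), (nat_lit 34), (nat_lit 1571), (nat_lit 1146), (nat_lit 518), (nat_lit 1746), (nat_lit 1024), (nat_lit 532), (nat_lit 0), (nat_lit 263)]),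
  ([(nat_lit 14), (nat_lit 9), (nat_lit 2)], [(nat_lit 126), (nat_lit 632), (nat_lit 74), (nat_lit 639), (nat_lit 121), (nat_lit 565)]),
  ([(nat_lit 14), (nat_lit 2), (nat_lit 1)], [(nat_lit 120), (nat_lit 630), (nat_lit 1039), (nat_lit 1663), (nat_lit 45), (nat_lit 633), (nat_lit 119), (nat_lit 545)]),
  ([(nat_lit 14), (nat_lit 14), (nat_lit 9)], [(nat_lit 20), (nat_lit 533), (nat_lit 131), (nat_lit 639)]),
  ([(nat_lit 1), (nat_lit 5), (nat_lit 1), (nat_lit 5)], [(nat_lit 726), (nat_lit 1568), (nat_lit 2101), (nat_lit 1180), (nat_lit 1698), (nat_lit 1074), (nat_lit 544), (nat_lit 2), (nat_lit 522), (nat_lit 1750), (nat_lit 1028), (nat_lit 536), (nat_lit 4), (nat_lit 247)]),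
  ([(nat_lit 2), (nat_lit 17), (nat_lit 3), (nat_lit 17), (nat_lit 11), (nat_lit 15), (nat_lit 3)], [(nat_lit 708), (nat_lit 2579), (nat_lit 1613), (nat_lit 2155), (nat_lit 1208), (nat_lit 1724), (nat_lit 1138), (nat_lit 589), (nat_lit 1221), (nat_lit 701), (nat_lit 1130), (nat_lit 1721)]),
  ([(nat_lit 16), (nat_lit 8), (nat_lit 0)], [(nat_lit 160), (nat_lit 666), (nat_lit 70), (nat_lit 673), (nat_lit 155), (nat_lit 553)]),
  ([(nat_lit 0), (nat_lit 5), (nat_lit 0), (nat_lit 5)], [(nat_lit 726), (nat_lit 1566), (nat_lit 1178), (nat_lit 542), (nat_lit 0), (nat_lit 1750), (nat_lit 1028), (nat_lit 536), (nat_lit 4), (nat_lit 241)]),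
  ([(nat_lit 16), (nat_lit 1), (nat_lit 0)], [(nat_lit 156), (nat_lit 666), (nat_lit 48), (nat_lit 1185), (nat_lit 669), (nat_lit 155), (nat_lit 541)]),
  ([(nat_lit 16), (nat_lit 16), (nat_lit 8)], [(nat_lit 24), (nat_lit 537), (nat_lit 167), (nat_lit 673)]),
  ([(nat_lit 1), (nat_lit 6), (nat_lit 1), (nat_lit 6)], [(nat_lit 722), (nat_lit 28), (nat_lit 3081), (nat_lit 2077), (nat_lit 2601), (nat_lit 1654), (nat_lit 1032), (nat_lit 1148), (nat_lit 514), (nat_lit 1746), (nat_lit 1024), (nat_lit 532), (nat_lit 0), (nat_lit 249)]),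
  ([(nat_lit 14), (nat_lit 3), (nat_lit 2)], [(nat_lit 122), (nat_lit 632), (nat_lit 38), (nat_lit 1153), (nat_lit 635), (nat_lit 121), (nat_lit 551)]),
  ([(nat_lit 15), (nat_lit 3), (nat_lit 2)], [(nat_lit 140), (nat_lit 650), (nat_lit 1041), (nat_lit 1683), (nat_lit 55), (nat_lit 653), (nat_lit 139), (nat_lit 551)]),
  ([(nat_lit 15), (nat_lit 15), (nat_lit 10)], [(nat_lit 22), (nat_lit 535), (nat_lit 151), (nat_lit 659)]),
  ([(nat_lit 17), (nat_lit 11), (nat_lit 0)], [(nat_lit 184), (nat_lit 684), (nat_lit 100), (nat_lit 697), (nat_lit 173), (nat_lit 583)]),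
  ([(nat_lit 16), (nat_lit 14), (nat_lit 1)], [(nat_lit 200), (nat_lit 668), (nat_lit 126), (nat_lit 713), (nat_lit 161), (nat_lit 631)]),
  ([(nat_lit 16), (nat_lit 14), (nat_lit 3)], [(nat_lit 200), (nat_lit 670), (nat_lit 128), (nat_lit 713), (nat_lit 159), (nat_lit 635)]),
  ([(nat_lit 14), (nat_lit 0), (nat_lit 16), (nat_lit 14)], [(nat_lit 667), (nat_lit 201), (nat_lit 702), (nat_lit 154), (nat_lit 712), (nat_lit 1178), (nat_lit 191), (nat_lit 1225)]),
  ([(nat_lit 15), (nat_lit 15), (nat_lit 13)], [(nat_lit 22), (nat_lit 535), (nat_lit 153), (nat_lit 665)]),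
  ([(nat_lit 15), (nat_lit 11), (nat_lit 3)], [(nat_lit 148), (nat_lit 652), (nat_lit 76), (nat_lit 1177), (nat_lit 661), (nat_lit 141), (nat_lit 589)]),
  ([(nat_lit 15), (nat_lit 10), (nat_lit 8)], [(nat_lit 146), (nat_lit 654), (nat_lit 84), (nat_lit 1177), (nat_lit 659), (nat_lit 143), (nat_lit 579)]),
  ([(nat_lit 0), (nat_lit 1), (nat_lit 0), (nat_lit 1), (nat_lit 0), (nat_lit 1), (nat_lit 0), (nat_lit 1)], [(nat_lit 540), (nat_lit 0), (nat_lit 554), (nat_lit 2), (nat_lit 40), (nat_lit 554), (nat_lit 1064), (nat_lit 540), (nat_lit 0), (nat_lit 520), (nat_lit 2), (nat_lit 279)]),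
  ([(nat_lit 3), (nat_lit 4), (nat_lit 3), (nat_lit 4)], [(nat_lit 724), (nat_lit 36), (nat_lit 1573), (nat_lit 1164), (nat_lit 518), (nat_lit 1748), (nat_lit 1026), (nat_lit 534), (nat_lit 2), (nat_lit 259)]),
  ([(nat_lit 3), (nat_lit 7), (nat_lit 3), (nat_lit 7), (nat_lit 3), (nat_lit 7)], [(nat_lit 728), (nat_lit 6), (nat_lit 518), (nat_lit 728), (nat_lit 196), (nat_lit 1030), (nat_lit 1752), (nat_lit 1030), (nat_lit 538), (nat_lit 6), (nat_lit 277)]),
  ([(nat_lit 14), (nat_lit 12), (nat_lit 3)], [(nat_lit 132), (nat_lit 634), (nat_lit 106), (nat_lit 645), (nat_lit 123), (nat_lit 603)]),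
  ([(nat_lit 14), (nat_lit 9), (nat_lit 3)], [(nat_lit 126), (nat_lit 634), (nat_lit 76), (nat_lit 1157), (nat_lit 639), (nat_lit 123), (nat_lit 567)]),
  ([(nat_lit 14), (nat_lit 14), (nat_lit 12)], [(nat_lit 20), (nat_lit 533), (nat_lit 135), (nat_lit 645)]),
  ([(nat_lit 14), (nat_lit 10), (nat_lit 1)], [(nat_lit 128), (nat_lit 630), (nat_lit 66), (nat_lit 1157), (nat_lit 641), (nat_lit 119), (nat_lit 573)]),
  ([(nat_lit 17), (nat_lit 2), (nat_lit 1)], [(nat_lit 176), (nat_lit 686), (nat_lit 60), (nat_lit 1205), (nat_lit 689), (nat_lit 175), (nat_lit 545)]),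
  ([(nat_lit 17), (nat_lit 9), (nat_lit 0)], [(nat_lit 180), (nat_lit 684), (nat_lit 84), (nat_lit 1209), (nat_lit 693), (nat_lit 173), (nat_lit 561)]),
  ([(nat_lit 16), (nat_lit 9), (nat_lit 3)], [(nat_lit 162), (nat_lit 670), (nat_lit 1041), (nat_lit 1705), (nat_lit 61), (nat_lit 675), (nat_lit 159), (nat_lit 567)]),
  ([(nat_lit 16), (nat_lit 15), (nat_lit 16), (nat_lit 3)], [(nat_lit 202), (nat_lit 1164), (nat_lit 670), (nat_lit 146), (nat_lit 715), (nat_lit 169), (nat_lit 659), (nat_lit 1183)]),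
  ([(nat_lit 17), (nat_lit 16), (nat_lit 17), (nat_lit 1)], [(nat_lit 208), (nat_lit 1180), (nat_lit 692), (nat_lit 168), (nat_lit 721), (nat_lit 181), (nat_lit 669), (nat_lit 1199)]),
  ([(nat_lit 2), (nat_lit 3), (nat_lit 2), (nat_lit 3), (nat_lit 5), (nat_lit 2), (nat_lit 3), (nat_lit 2), (nat_lit 5)], [(nat_lit 550), (nat_lit 4), (nat_lit 576), (nat_lit 6), (nat_lit 726), (nat_lit 62), (nat_lit 1540), (nat_lit 1182), (nat_lit 524), (nat_lit 1750), (nat_lit 1028), (nat_lit 536), (nat_lit 4), (nat_lit 325)]),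
  ([(nat_lit 2), (nat_lit 3), (nat_lit 2), (nat_lit 3), (nat_lit 7), (nat_lit 3), (nat_lit 2), (nat_lit 3), (nat_lit 7)], [(nat_lit 550), (nat_lit 4), (nat_lit 576), (nat_lit 6), (nat_lit 728), (nat_lit 64), (nat_lit 1542), (nat_lit 1200), (nat_lit 524), (nat_lit 1752), (nat_lit 1030), (nat_lit 538), (nat_lit 6), (nat_lit 327)]),
  ([(nat_lit 2), (nat_lit 3), (nat_lit 2), (nat_lit 7), (nat_lit 3), (nat_lit 2), (nat_lit 7), (nat_lit 3), (nat_lit 7)], [(nat_lit 550), (nat_lit 4), (nat_lit 1240), (nat_lit 576), (nat_lit 6), (nat_lit 1030), (nat_lit 688), (nat_lit 12), (nat_lit 728), (nat_lit 196), (nat_lit 1030), (nat_lit 1752), (nat_lit 1030), (nat_lit 538), (nat_lit 6), (nat_lit 329)]),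
  ([(nat_lit 16), (nat_lit 16), (nat_lit 3)], [(nat_lit 24), (nat_lit 537), (nat_lit 165), (nat_lit 671)]),
  ([(nat_lit 17), (nat_lit 17), (nat_lit 2)], [(nat_lit 26), (nat_lit 539), (nat_lit 183), (nat_lit 689)]),
  ([(nat_lit 17), (nat_lit 17), (nat_lit 9)], [(nat_lit 26), (nat_lit 539), (nat_lit 187), (nat_lit 693)]),
  ([(nat_lit 17), (nat_lit 17), (nat_lit 11)], [(nat_lit 26), (nat_lit 539), (nat_lit 189), (nat_lit 697)]),
  ([(nat_lit 17), (nat_lit 17), (nat_lit 16), (nat_lit 17)], [(nat_lit 26), (nat_lit 1049), (nat_lit 209), (nat_lit 721)]),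
  ([(nat_lit 16), (nat_lit 3), (nat_lit 1)], [(nat_lit 158), (nat_lit 668), (nat_lit 68), (nat_lit 671), (nat_lit 157), (nat_lit 549)]),
  ([(nat_lit 17), (nat_lit 9), (nat_lit 2)], [(nat_lit 180), (nat_lit 688), (nat_lit 96), (nat_lit 693), (nat_lit 177), (nat_lit 565)]),
  ([(nat_lit 15), (nat_lit 10), (nat_lit 9)], [(nat_lit 146), (nat_lit 656), (nat_lit 88), (nat_lit 659), (nat_lit 145), (nat_lit 581)]),
  ([(nat_lit 16), (nat_lit 14), (nat_lit 12)], [(nat_lit 200), (nat_lit 680), (nat_lit 132), (nat_lit 713), (nat_lit 171), (nat_lit 645)]),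
  ([(nat_lit 2), (nat_lit 7), (nat_lit 2), (nat_lit 7)], [(nat_lit 728), (nat_lit 1574), (nat_lit 2113), (nat_lit 1200), (nat_lit 1718), (nat_lit 1086), (nat_lit 550), (nat_lit 4), (nat_lit 524), (nat_lit 1752), (nat_lit 1030), (nat_lit 538), (nat_lit 6), (nat_lit 257)]),
  ([(nat_lit 3), (nat_lit 5), (nat_lit 3), (nat_lit 5)], [(nat_lit 726), (nat_lit 38), (nat_lit 3085), (nat_lit 2087), (nat_lit 2623), (nat_lit 1694), (nat_lit 1036), (nat_lit 1188), (nat_lit 518), (nat_lit 1750), (nat_lit 1028), (nat_lit 536), (nat_lit 4), (nat_lit 261)]),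
  ([(nat_lit 1), (nat_lit 2), (nat_lit 3), (nat_lit 1), (nat_lit 2), (nat_lit 3), (nat_lit 1), (nat_lit 2), (nat_lit 3), (nat_lit 1), (nat_lit 2), (nat_lit 3)], [(nat_lit 1060), (nat_lit 544), (nat_lit 2), (nat_lit 566), (nat_lit 1624), (nat_lit 1076), (nat_lit 550), (nat_lit 4), (nat_lit 580), (nat_lit 1626), (nat_lit 1088), (nat_lit 566), (nat_lit 6), (nat_lit 608), (nat_lit 1040), (nat_lit 572), (nat_lit 50), (nat_lit 1624), (nat_lit 1086), (nat_lit 564), (nat_lit 2138), (nat_lit 1600), (nat_lit 1078), (nat_lit 2144), (nat_lit 2576), (nat_lit 2108), (nat_lit 1586), (nat_lit 1060), (nat_lit 544), (nat_lit 2), (nat_lit 566), (nat_lit 1630), (nat_lit 1034), (nat_lit 1120), (nat_lit 1552), (nat_lit 1086), (nat_lit 550), (nat_lit 4), (nat_lit 524), (nat_lit 6), (nat_lit 337)]),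
  ([(nat_lit 12), (nat_lit 2), (nat_lit 0)], [(nat_lit 88), (nat_lit 596), (nat_lit 30), (nat_lit 601), (nat_lit 1129), (nat_lit 85), (nat_lit 543)]),
  ([(nat_lit 15), (nat_lit 13), (nat_lit 2)], [(nat_lit 152), (nat_lit 650), (nat_lit 110), (nat_lit 665), (nat_lit 139), (nat_lit 617)]),
  ([(nat_lit 17), (nat_lit 14), (nat_lit 9)], [(nat_lit 204), (nat_lit 692), (nat_lit 132), (nat_lit 717), (nat_lit 185), (nat_lit 639)]),
  ([(nat_lit 17), (nat_lit 11), (nat_lit 10)], [(nat_lit 184), (nat_lit 694), (nat_lit 104), (nat_lit 697), (nat_lit 183), (nat_lit 595)]),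
  ([(nat_lit 14), (nat_lit 12), (nat_lit 11)], [(nat_lit 132), (nat_lit 642), (nat_lit 110), (nat_lit 645), (nat_lit 131), (nat_lit 611)]),
  ([(nat_lit 16), (nat_lit 13), (nat_lit 1)], [(nat_lit 170), (nat_lit 668), (nat_lit 110), (nat_lit 683), (nat_lit 157), (nat_lit 615)]),
  ([(nat_lit 17), (nat_lit 14), (nat_lit 1)], [(nat_lit 204), (nat_lit 686), (nat_lit 118), (nat_lit 717), (nat_lit 179), (nat_lit 631)]),
  ([(nat_lit 0), (nat_lit 17), (nat_lit 3), (nat_lit 17), (nat_lit 8)], [(nat_lit 708), (nat_lit 1583), (nat_lit 1202), (nat_lit 559), (nat_lit 1221), (nat_lit 691), (nat_lit 1070), (nat_lit 1715)]),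
  ([(nat_lit 17), (nat_lit 9), (nat_lit 8)], [(nat_lit 180), (nat_lit 690), (nat_lit 92), (nat_lit 693), (nat_lit 179), (nat_lit 569)]),
  ([(nat_lit 17), (nat_lit 11), (nat_lit 1)], [(nat_lit 184), (nat_lit 686), (nat_lit 102), (nat_lit 697), (nat_lit 175), (nat_lit 585)]),
  ([(nat_lit 15), (nat_lit 11), (nat_lit 2)], [(nat_lit 148), (nat_lit 650), (nat_lit 80), (nat_lit 661), (nat_lit 139), (nat_lit 587)]),
  ([(nat_lit 17), (nat_lit 11), (nat_lit 9)], [(nat_lit 184), (nat_lit 692), (nat_lit 116), (nat_lit 697), (nat_lit 181), (nat_lit 593)]),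
  ([(nat_lit 15), (nat_lit 13), (nat_lit 10)], [(nat_lit 152), (nat_lit 658), (nat_lit 116), (nat_lit 665), (nat_lit 147), (nat_lit 625)]),
  ([(nat_lit 16), (nat_lit 8), (nat_lit 1)], [(nat_lit 160), (nat_lit 668), (nat_lit 80), (nat_lit 673), (nat_lit 157), (nat_lit 555)]),
  ([(nat_lit 0), (nat_lit 4), (nat_lit 0), (nat_lit 4)], [(nat_lit 724), (nat_lit 1564), (nat_lit 2091), (nat_lit 1160), (nat_lit 1678), (nat_lit 1064), (nat_lit 540), (nat_lit 0), (nat_lit 520), (nat_lit 1748), (nat_lit 1026), (nat_lit 534), (nat_lit 2), (nat_lit 239)]),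
  ([(nat_lit 0), (nat_lit 1), (nat_lit 0), (nat_lit 1), (nat_lit 6), (nat_lit 0), (nat_lit 1), (nat_lit 0), (nat_lit 6)], [(nat_lit 540), (nat_lit 0), (nat_lit 554), (nat_lit 2), (nat_lit 722), (nat_lit 40), (nat_lit 1536), (nat_lit 1142), (nat_lit 520), (nat_lit 1746), (nat_lit 1024), (nat_lit 532), (nat_lit 0), (nat_lit 293)]),
  ([(nat_lit 0), (nat_lit 1), (nat_lit 2), (nat_lit 0), (nat_lit 1), (nat_lit 2), (nat_lit 0), (nat_lit 1), (nat_lit 2), (nat_lit 0), (nat_lit 1), (nat_lit 2)], [(nat_lit 1054), (nat_lit 540), (nat_lit 0), (nat_lit 556), (nat_lit 1608), (nat_lit 1066), (nat_lit 544), (nat_lit 2), (nat_lit 568), (nat_lit 1610), (nat_lit 1076), (nat_lit 556), (nat_lit 4), (nat_lit 592), (nat_lit 1038), (nat_lit 560), (nat_lit 40), (nat_lit 1608), (nat_lit 1074), (nat_lit 554), (nat_lit 2122), (nat_lit 1588), (nat_lit 1068), (nat_lit 2128), (nat_lit 2574), (nat_lit 2096), (nat_lit 1576), (nat_lit 1054), (nat_lit 540), (nat_lit 0), (nat_lit 556), (nat_lit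 1614), (nat_lit 1032), (nat_lit 1104), (nat_lit 1550), (nat_lit 1074), (nat_lit 544), (nat_lit 2), (nat_lit 522), (nat_lit 4), (nat_lit 335)]),
  ([(nat_lit 15), (nat_lit 1), (nat_lit 17), (nat_lit 15)], [(nat_lit 687), (nat_lit 207), (nat_lit 704), (nat_lit 174), (nat_lit 718), (nat_lit 1198), (nat_lit 193), (nat_lit 1231)]),
  ([(nat_lit 17), (nat_lit 3), (nat_lit 17), (nat_lit 15)], [(nat_lit 196), (nat_lit 1165), (nat_lit 718), (nat_lit 141), (nat_lit 709), (nat_lit 207), (nat_lit 652), (nat_lit 1231)]),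
  ([(nat_lit 4), (nat_lit 7), (nat_lit 4), (nat_lit 7)], [(nat_lit 212), (nat_lit 1752), (nat_lit 1061), (nat_lit 652), (nat_lit 1711), (nat_lit 3284), (nat_lit 2596), (nat_lit 2050), (nat_lit 1231), (nat_lit 1676), (nat_lit 2070), (nat_lit 1572), (nat_lit 1198), (nat_lit 548), (nat_lit 2), (nat_lit 1752), (nat_lit 1030), (nat_lit 538), (nat_lit 6), (nat_lit 265)]),
  ([(nat_lit 17), (nat_lit 15), (nat_lit 2)], [(nat_lit 206), (nat_lit 688), (nat_lit 146), (nat_lit 719), (nat_lit 181), (nat_lit 651)]),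
  ([(nat_lit 17), (nat_lit 15), (nat_lit 11)], [(nat_lit 206), (nat_lit 696), (nat_lit 152), (nat_lit 719), (nat_lit 185), (nat_lit 661)]),
  ([(nat_lit 16), (nat_lit 15), (nat_lit 16), (nat_lit 0)], [(nat_lit 202), (nat_lit 1160), (nat_lit 672), (nat_lit 148), (nat_lit 715), (nat_lit 161), (nat_lit 649), (nat_lit 1179)]),
  ([(nat_lit 1), (nat_lit 2), (nat_lit 1), (nat_lit 2), (nat_lit 4), (nat_lit 1), (nat_lit 2), (nat_lit 1), (nat_lit 4)], [(nat_lit 544), (nat_lit 2), (nat_lit 564), (nat_lit 4), (nat_lit 724), (nat_lit 50), (nat_lit 1538), (nat_lit 1162), (nat_lit 522), (nat_lit 1748), (nat_lit 1026), (nat_lit 534), (nat_lit 2), (nat_lit 307)]),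
  ([(nat_lit 15), (nat_lit 15), (nat_lit 2)], [(nat_lit 22), (nat_lit 535), (nat_lit 145), (nat_lit 651)]),
  ([(nat_lit 2), (nat_lit 4), (nat_lit 2), (nat_lit 4)], [(nat_lit 724), (nat_lit 32), (nat_lit 3083), (nat_lit 2081), (nat_lit 2611), (nat_lit 1674), (nat_lit 1034), (nat_lit 1168), (nat_lit 516), (nat_lit 1748), (nat_lit 1026), (nat_lit 534), (nat_lit 2), (nat_lit 253)]),
  ([(nat_lit 16), (nat_lit 16), (nat_lit 15), (nat_lit 16)], [(nat_lit 24), (nat_lit 1047), (nat_lit 203), (nat_lit 715)]),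
  ([(nat_lit 17), (nat_lit 15), (nat_lit 0)], [(nat_lit 206), (nat_lit 684), (nat_lit 136), (nat_lit 719), (nat_lit 179), (nat_lit 649)]),
  ([(nat_lit 0), (nat_lit 7), (nat_lit 0), (nat_lit 7)], [(nat_lit 728), (nat_lit 1570), (nat_lit 1196), (nat_lit 546), (nat_lit 0), (nat_lit 1752), (nat_lit 1030), (nat_lit 538), (nat_lit 6), (nat_lit 243)]),
  ([(nat_lit 0), (nat_lit 1), (nat_lit 0), (nat_lit 4), (nat_lit 1), (nat_lit 0), (nat_lit 4), (nat_lit 1), (nat_lit 4)], [(nat_lit 540), (nat_lit 0), (nat_lit 1236), (nat_lit 554), (nat_lit 2), (nat_lit 1026), (nat_lit 648), (nat_lit 8), (nat_lit 724), (nat_lit 192), (nat_lit 1026), (nat_lit 1748), (nat_lit 1026), (nat_lit 534), (nat_lit 2), (nat_lit 295)]),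
  ([(nat_lit 1), (nat_lit 2), (nat_lit 4), (nat_lit 1), (nat_lit 2), (nat_lit 4), (nat_lit 1), (nat_lit 4), (nat_lit 2)], [(nat_lit 1236), (nat_lit 544), (nat_lit 2), (nat_lit 1538), (nat_lit 1162), (nat_lit 522), (nat_lit 1236), (nat_lit 704), (nat_lit 32), (nat_lit 2050), (nat_lit 2772), (nat_lit 2050), (nat_lit 1558), (nat_lit 1074), (nat_lit 544), (nat_lit 2), (nat_lit 522), (nat_lit 4), (nat_lit 315)]),
  ([(nat_lit 1), (nat_lit 2), (nat_lit 4), (nat_lit 1), (nat_lit 2), (nat_lit 4), (nat_lit 1), (nat_lit 2), (nat_lit 4)], [(nat_lit 1236), (nat_lit 544), (nat_lit 2), (nat_lit 1538), (nat_lit 1162), (nat_lit 522), (nat_lit 1236), (nat_lit 704), (nat_lit 32), (nat_lit 2050), (nat_lit 3083), (nat_lit 2081), (nat_lit 2611), (nat_lit 1674), (nat_lit 1034), (nat_lit 1168), (nat_lit 516), (nat_lit 1748), (nat_lit 1026), (nat_lit 534), (nat_lit 2), (nat_lit 313)]),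
  ([(nat_lit 1), (nat_lit 4), (nat_lit 1), (nat_lit 4), (nat_lit 1), (nat_lit 4)], [(nat_lit 724), (nat_lit 2), (nat_lit 514), (nat_lit 724), (nat_lit 192), (nat_lit 1026), (nat_lit 1748), (nat_lit 1026), (nat_lit 534), (nat_lit 2), (nat_lit 273)]),
  ([(nat_lit 15), (nat_lit 14), (nat_lit 15), (nat_lit 2)], [(nat_lit 198), (nat_lit 1144), (nat_lit 650), (nat_lit 126), (nat_lit 711), (nat_lit 149), (nat_lit 639), (nat_lit 1163)]),
  ([(nat_lit 0), (nat_lit 6), (nat_lit 0), (nat_lit 6), (nat_lit 0), (nat_lit 6)], [(nat_lit 722), (nat_lit 0), (nat_lit 512), (nat_lit 722), (nat_lit 190), (nat_lit 1024), (nat_lit 1746), (nat_lit 1024), (nat_lit 532), (nat_lit 0), (nat_lit 271)]),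
  ([(nat_lit 0), (nat_lit 1), (nat_lit 6), (nat_lit 0), (nat_lit 1), (nat_lit 6), (nat_lit 0), (nat_lit 6), (nat_lit 1)], [(nat_lit 1234), (nat_lit 540), (nat_lit 0), (nat_lit 1536), (nat_lit 1142), (nat_lit 520), (nat_lit 1234), (nat_lit 702), (nat_lit 28), (nat_lit 2048), (nat_lit 2770), (nat_lit 2048), (nat_lit 1556), (nat_lit 1064), (nat_lit 540), (nat_lit 0), (nat_lit 520), (nat_lit 2), (nat_lit 299)]),
  ([(nat_lit 0), (nat_lit 1), (nat_lit 6), (nat_lit 0), (nat_lit 1), (nat_lit 6), (nat_lit 0), (nat_lit 1), (nat_lit 6)], [(nat_lit 1234), (nat_lit 540), (nat_lit 0), (nat_lit 1536), (nat_lit 1142), (nat_lit 520), (nat_lit 1234), (nat_lit 702), (nat_lit 28), (nat_lit 2048), (nat_lit 3081), (nat_lit 2077), (nat_lit 2601), (nat_lit 1654), (nat_lit 1032), (nat_lit 1148), (nat_lit 514), (nat_lit 1746), (nat_lit 1024), (nat_lit 532), (nat_lit 0), (nat_lit 297)]),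
  ([(nat_lit 17), (nat_lit 14), (nat_lit 2)], [(nat_lit 204), (nat_lit 688), (nat_lit 128), (nat_lit 717), (nat_lit 177), (nat_lit 633)]),
  ([(nat_lit 2), (nat_lit 6), (nat_lit 2), (nat_lit 6)], [(nat_lit 722), (nat_lit 30), (nat_lit 1567), (nat_lit 1144), (nat_lit 516), (nat_lit 1746), (nat_lit 1024), (nat_lit 532), (nat_lit 0), (nat_lit 255)]),
  ([(nat_lit 15), (nat_lit 15), (nat_lit 14), (nat_lit 15)], [(nat_lit 22), (nat_lit 1045), (nat_lit 199), (nat_lit 711)]),
  ([(nat_lit 14), (nat_lit 0), (nat_lit 15), (nat_lit 14), (nat_lit 15)], [(nat_lit 655), (nat_lit 1143), (nat_lit 199), (nat_lit 1216), (nat_lit 630), (nat_lit 142), (nat_lit 710), (nat_lit 1654), (nat_lit 1166), (nat_lit 191), (nat_lit 1223)]),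
  ([(nat_lit 1), (nat_lit 4), (nat_lit 1), (nat_lit 6), (nat_lit 4), (nat_lit 1), (nat_lit 6), (nat_lit 4), (nat_lit 6)], [(nat_lit 724), (nat_lit 2), (nat_lit 514), (nat_lit 722), (nat_lit 136), (nat_lit 2260), (nat_lit 2569), (nat_lit 1565), (nat_lit 1142), (nat_lit 654), (nat_lit 40), (nat_lit 2697), (nat_lit 2191), (nat_lit 1222), (nat_lit 2600), (nat_lit 3114), (nat_lit 3626), (nat_lit 3074), (nat_lit 3794), (nat_lit 3112), (nat_lit 2560), (nat_lit 2172), (nat_lit 2580), (nat_lit 2076), (nat_lit 1672), (nat_lit 1148), (nat_lit 554), (nat_lit 3796), (nat_lit 3114), (nat_lit 2562), (nat_lit 2190), (nat_lit 2582), (nat_lit 3081), (nat_lit 2077), (nat_lit 2601), (nat_lit 1654), (nat_lit 1032), (nat_lit 1148), (nat_lit 514), (nat_lit 1746), (nat_lit 1024), (nat_lit 532), (nat_lit 0), (nat_lit 319)]),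
  ([(nat_lit 0), (nat_lit 4), (nat_lit 6), (nat_lit 0), (nat_lit 4), (nat_lit 6), (nat_lit 4), (nat_lit 0), (nat_lit 6)], [(nat_lit 724), (nat_lit 2258), (nat_lit 1564), (nat_lit 2091), (nat_lit 1160), (nat_lit 1678), (nat_lit 1064), (nat_lit 540), (nat_lit 0), (nat_lit 520), (nat_lit 1149), (nat_lit 1576), (nat_lit 2088), (nat_lit 1536), (nat_lit 2260), (nat_lit 1578), (nat_lit 1142), (nat_lit 654), (nat_lit 28), (nat_lit 2697), (nat_lit 1734), (nat_lit 4306), (nat_lit 3612), (nat_lit 3072), (nat_lit 2678), (nat_lit 3196), (nat_lit 3604), (nat_lit 2602), (nat_lit 3112), (nat_lit 2588), (nat_lit 3592), (nat_lit 2184), (nat_lit 1660), (nat_lit 1066), (nat_lit 514), (nat_lit 2772), (nat_lit 2050), (nat_lit 1558), (nat_lit 1142), (nat_lit 520), (nat_lit 1746), (nat_lit 1024), (nat_lit 532), (nat_lit 0), (nat_lit 303)]),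
  ([(nat_lit 0), (nat_lit 4), (nat_lit 6), (nat_lit 0), (nat_lit 4), (nat_lit 6), (nat_lit 0), (nat_lit 4), (nat_lit 6)], [(nat_lit 724), (nat_lit 2258), (nat_lit 1564), (nat_lit 2091), (nat_lit 1160), (nat_lit 1678), (nat_lit 1064), (nat_lit 540), (nat_lit 0), (nat_lit 520), (nat_lit 1149), (nat_lit 1576), (nat_lit 2088), (nat_lit 1536), (nat_lit 2260), (nat_lit 1578), (nat_lit 1142), (nat_lit 654), (nat_lit 28), (nat_lit 2697), (nat_lit 1734), (nat_lit 4306), (nat_lit 3612), (nat_lit 3072), (nat_lit 2678), (nat_lit 3196), (nat_lit 3604), (nat_lit 2602), (nat_lit 3112), (nat_lit 2588), (nat_lit 3592), (nat_lit 2184), (nat_lit 1660), (nat_lit 1066), (nat_lit 514), (nat_lit 2076), (nat_lit 1672), (nat_lit 1148), (nat_lit 554), (nat_lit 3796), (nat_lit 3114), (nat_lit 2562), (nat_lit 2190), (nat_lit 2582), (nat_lit 3081), (nat_lit 2077), (nat_lit 2601), (nat_lit 1654), (nat_lit 1032), (nat_lit 1148), (nat_lit 514), (nat_lit 1746), (nat_lit 1024), (nat_lit 532),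 (nat_lit 0), (nat_lit 301)]),
  ([(nat_lit 1), (nat_lit 4), (nat_lit 6), (nat_lit 4), (nat_lit 1), (nat_lit 4), (nat_lit 6), (nat_lit 4), (nat_lit 6)], [(nat_lit 724), (nat_lit 2), (nat_lit 1234), (nat_lit 540), (nat_lit 1067), (nat_lit 136), (nat_lit 654), (nat_lit 40), (nat_lit 1661), (nat_lit 2088), (nat_lit 3284), (nat_lit 2602), (nat_lit 3081), (nat_lit 2077), (nat_lit 3080), (nat_lit 1654), (nat_lit 1166), (nat_lit 552), (nat_lit 0), (nat_lit 1679), (nat_lit 710), (nat_lit 2090), (nat_lit 2602), (nat_lit 2050), (nat_lit 2772), (nat_lit 2090), (nat_lit 2091), (nat_lit 711), (nat_lit 1678), (nat_lit 2240), (nat_lit 2569), (nat_lit 1565), (nat_lit 1142), (nat_lit 654), (nat_lit 40), (nat_lit 2697), (nat_lit 2191), (nat_lit 1222), (nat_lit 2600), (nat_lit 3114), (nat_lit 3626), (nat_lit 3074), (nat_lit 3794), (nat_lit 3112), (nat_lit 2560), (nat_lit 2172), (nat_lit 2580), (nat_lit 2076), (nat_lit 1672), (nat_lit 1148), (nat_lit 554), (nat_lit 3796), (nat_lit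 3114), (nat_lit 2562), (nat_lit 2190), (nat_lit 2582), (nat_lit 3081), (nat_lit 2077), (nat_lit 2601), (nat_lit 1654), (nat_lit 1032), (nat_lit 1148), (nat_lit 514), (nat_lit 1746), (nat_lit 1024), (nat_lit 532), (nat_lit 0), (nat_lit 323)]),
  ([(nat_lit 0), (nat_lit 4), (nat_lit 6), (nat_lit 4), (nat_lit 6), (nat_lit 0), (nat_lit 6), (nat_lit 4), (nat_lit 6)], [(nat_lit 724), (nat_lit 2258), (nat_lit 1564), (nat_lit 2091), (nat_lit 1160), (nat_lit 1678), (nat_lit 1064), (nat_lit 540), (nat_lit 0), (nat_lit 520), (nat_lit 1149), (nat_lit 1576), (nat_lit 2772), (nat_lit 2090), (nat_lit 2569), (nat_lit 1565), (nat_lit 2568), (nat_lit 1142), (nat_lit 654), (nat_lit 28), (nat_lit 2703), (nat_lit 1734), (nat_lit 3114), (nat_lit 4306), (nat_lit 3624), (nat_lit 3100), (nat_lit 4104), (nat_lit 4105), (nat_lit 3101), (nat_lit 3625), (nat_lit 2678), (nat_lit 3196), (nat_lit 3774), (nat_lit 2602), (nat_lit 3112), (nat_lit 2588), (nat_lit 3592), (nat_lit 2184), (nat_lit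 1660), (nat_lit 1066), (nat_lit 514), (nat_lit 2173), (nat_lit 2600), (nat_lit 3112), (nat_lit 2560), (nat_lit 2600), (nat_lit 3794), (nat_lit 3112), (nat_lit 2560), (nat_lit 2172), (nat_lit 2580), (nat_lit 2076), (nat_lit 1672), (nat_lit 1148), (nat_lit 554), (nat_lit 3796), (nat_lit 3114), (nat_lit 2562), (nat_lit 2190), (nat_lit 2582), (nat_lit 3081), (nat_lit 2077), (nat_lit 2601), (nat_lit 1654), (nat_lit 1032), (nat_lit 1148), (nat_lit 514), (nat_lit 1746), (nat_lit 1024), (nat_lit 532), (nat_lit 0), (nat_lit 305)]),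
  ([(nat_lit 4), (nat_lit 6), (nat_lit 4), (nat_lit 6), (nat_lit 4), (nat_lit 6), (nat_lit 4), (nat_lit 6)], [(nat_lit 212), (nat_lit 1746), (nat_lit 1052), (nat_lit 1579), (nat_lit 648), (nat_lit 1166), (nat_lit 552), (nat_lit 28), (nat_lit 1032), (nat_lit 1661), (nat_lit 2088), (nat_lit 3284), (nat_lit 2602), (nat_lit 3081), (nat_lit 2077), (nat_lit 3080), (nat_lit 1654), (nat_lit 1166), (nat_lit 540), (nat_lit 0), (nat_lit 2191), (nat_lit 1222), (nat_lit 2602), (nat_lit 3794), (nat_lit 3112), (nat_lit 2588), (nat_lit 3592), (nat_lit 3593), (nat_lit 2589), (nat_lit 3113), (nat_lit 2166), (nat_lit 2684), (nat_lit 3262), (nat_lit 2090), (nat_lit 2600), (nat_lit 2076), (nat_lit 3080), (nat_lit 1672), (nat_lit 1148), (nat_lit 554), (nat_lit 2), (nat_lit 1661), (nat_lit 2088), (nat_lit 2600), (nat_lit 2048), (nat_lit 2772), (nat_lit 2090), (nat_lit 2091), (nat_lit 711), (nat_lit 1678), (nat_lit 2240), (nat_lit 2569), (nat_lit 1565), (nat_lit 1142), (nat_lit 654),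 (nat_lit 40), (nat_lit 2697), (nat_lit 2191), (nat_lit 1222), (nat_lit 2600), (nat_lit 3114), (nat_lit 3626), (nat_lit 3074), (nat_lit 3794), (nat_lit 3112), (nat_lit 2560), (nat_lit 2172), (nat_lit 2580), (nat_lit 2076), (nat_lit 1672), (nat_lit 1148), (nat_lit 554), (nat_lit 3796), (nat_lit 3114), (nat_lit 2562), (nat_lit 2190), (nat_lit 2582), (nat_lit 3081), (nat_lit 2077), (nat_lit 2601), (nat_lit 1654), (nat_lit 1032), (nat_lit 1148), (nat_lit 514), (nat_lit 1746), (nat_lit 1024), (nat_lit 532), (nat_lit 0), (nat_lit 287)]),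
  ([(nat_lit 16), (nat_lit 2), (nat_lit 17), (nat_lit 16), (nat_lit 17)], [(nat_lit 695), (nat_lit 1183), (nat_lit 209), (nat_lit 1220), (nat_lit 670), (nat_lit 182), (nat_lit 720), (nat_lit 1694), (nat_lit 1206), (nat_lit 195), (nat_lit 1233)]),
  ([(nat_lit 1), (nat_lit 2), (nat_lit 1), (nat_lit 5), (nat_lit 2), (nat_lit 1), (nat_lit 5), (nat_lit 2), (nat_lit 5)], [(nat_lit 544), (nat_lit 2), (nat_lit 1238), (nat_lit 564), (nat_lit 4), (nat_lit 1028), (nat_lit 668), (nat_lit 10), (nat_lit 726), (nat_lit 194), (nat_lit 1028), (nat_lit 1750), (nat_lit 1028), (nat_lit 536), (nat_lit 4), (nat_lit 311)]),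
  ([(nat_lit 2), (nat_lit 3), (nat_lit 5), (nat_lit 2), (nat_lit 3), (nat_lit 5), (nat_lit 2), (nat_lit 3), (nat_lit 5)], [(nat_lit 1238), (nat_lit 550), (nat_lit 4), (nat_lit 1540), (nat_lit 1182), (nat_lit 524), (nat_lit 1238), (nat_lit 706), (nat_lit 38), (nat_lit 2052), (nat_lit 3085), (nat_lit 2087), (nat_lit 2623), (nat_lit 1694), (nat_lit 1036), (nat_lit 1188), (nat_lit 518), (nat_lit 1750), (nat_lit 1028), (nat_lit 536), (nat_lit 4), (nat_lit 331)]),
  ([(nat_lit 2), (nat_lit 5), (nat_lit 2), (nat_lit 7), (nat_lit 5), (nat_lit 2), (nat_lit 7), (nat_lit 5), (nat_lit 7)], [(nat_lit 726), (nat_lit 4), (nat_lit 516), (nat_lit 728), (nat_lit 158), (nat_lit 2262), (nat_lit 1574), (nat_lit 1200), (nat_lit 676), (nat_lit 64), (nat_lit 2719), (nat_lit 2213), (nat_lit 2624), (nat_lit 3134), (nat_lit 2598), (nat_lit 3596), (nat_lit 3110), (nat_lit 2564), (nat_lit 3800), (nat_lit 3136), (nat_lit 2566), (nat_lit 1233), (nat_lit 2230), (nat_lit 2586), (nat_lit 3085),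 (nat_lit 2087), (nat_lit 1694), (nat_lit 1206), (nat_lit 574), (nat_lit 38), (nat_lit 1036), (nat_lit 3286), (nat_lit 2622), (nat_lit 2052), (nat_lit 1700), (nat_lit 2072), (nat_lit 1574), (nat_lit 2113), (nat_lit 1200), (nat_lit 1718), (nat_lit 1086), (nat_lit 550), (nat_lit 4), (nat_lit 524), (nat_lit 1752), (nat_lit 1030), (nat_lit 538), (nat_lit 6), (nat_lit 333)]),
  ([(nat_lit 5), (nat_lit 7), (nat_lit 5), (nat_lit 7), (nat_lit 5), (nat_lit 7), (nat_lit 5), (nat_lit 7)], [(nat_lit 214), (nat_lit 1752), (nat_lit 2061), (nat_lit 1063), (nat_lit 1599), (nat_lit 670), (nat_lit 1188), (nat_lit 576), (nat_lit 2231), (nat_lit 2624), (nat_lit 3798), (nat_lit 3134), (nat_lit 2598), (nat_lit 3596), (nat_lit 2224), (nat_lit 1700), (nat_lit 1088), (nat_lit 518), (nat_lit 2213), (nat_lit 2622), (nat_lit 3800), (nat_lit 3136), (nat_lit 3137), (nat_lit 1233), (nat_lit 2224), (nat_lit 2742), (nat_lit 3268), (nat_lit 2110), (nat_lit 2624), (nat_lit 3085), (nat_lit 2087),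 (nat_lit 3084), (nat_lit 1694), (nat_lit 1206), (nat_lit 574), (nat_lit 4), (nat_lit 1719), (nat_lit 720), (nat_lit 2112), (nat_lit 2624), (nat_lit 2054), (nat_lit 2774), (nat_lit 2110), (nat_lit 2111), (nat_lit 1700), (nat_lit 2242), (nat_lit 1574), (nat_lit 1200), (nat_lit 676), (nat_lit 64), (nat_lit 2719), (nat_lit 2213), (nat_lit 2624), (nat_lit 3134), (nat_lit 2598), (nat_lit 3596), (nat_lit 3110), (nat_lit 2564), (nat_lit 3800), (nat_lit 3136), (nat_lit 2566), (nat_lit 1233), (nat_lit 2230), (nat_lit 2586), (nat_lit 3085), (nat_lit 2087), (nat_lit 1694), (nat_lit 1206), (nat_lit 574), (nat_lit 38), (nat_lit 1036), (nat_lit 3286), (nat_lit 2622), (nat_lit 2052), (nat_lit 1700), (nat_lit 2072), (nat_lit 1574), (nat_lit 2113), (nat_lit 1200), (nat_lit 1718), (nat_lit 1086), (nat_lit 550), (nat_lit 4), (nat_lit 524), (nat_lit 1752), (nat_lit 1030), (nat_lit 538), (nat_lit 6), (nat_lit 289)]),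
  ([(nat_lit 2), (nat_lit 5), (nat_lit 2), (nat_lit 5), (nat_lit 2), (nat_lit 5)], [(nat_lit 726), (nat_lit 4), (nat_lit 516), (nat_lit 726), (nat_lit 194), (nat_lit 1028), (nat_lit 1750), (nat_lit 1028), (nat_lit 536), (nat_lit 4), (nat_lit 275)]),
  ([(nat_lit 15), (nat_lit 1), (nat_lit 16), (nat_lit 15), (nat_lit 16)], [(nat_lit 675), (nat_lit 1163), (nat_lit 203), (nat_lit 1218), (nat_lit 650), (nat_lit 162), (nat_lit 714), (nat_lit 1674), (nat_lit 1186), (nat_lit 193), (nat_lit 1227)]),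
  ([(nat_lit 1), (nat_lit 4), (nat_lit 1), (nat_lit 5), (nat_lit 4), (nat_lit 1), (nat_lit 5), (nat_lit 4), (nat_lit 5)], [(nat_lit 724), (nat_lit 2), (nat_lit 514), (nat_lit 726), (nat_lit 138), (nat_lit 2260), (nat_lit 1568), (nat_lit 1180), (nat_lit 656), (nat_lit 52), (nat_lit 2699), (nat_lit 2193), (nat_lit 2612), (nat_lit 3122), (nat_lit 2592), (nat_lit 3594), (nat_lit 3104), (nat_lit 2562), (nat_lit 3798), (nat_lit 3124), (nat_lit 2564), (nat_lit 1227), (nat_lit 2210), (nat_lit 2584), (nat_lit 3083), (nat_lit 2081), (nat_lit 1674), (nat_lit 1186), (nat_lit 562), (nat_lit 32), (nat_lit 1034), (nat_lit 3284), (nat_lit 2610), (nat_lit 2050), (nat_lit 1680), (nat_lit 2070), (nat_lit 1568), (nat_lit 2101), (nat_lit 1180), (nat_lit 1698), (nat_lit 1074), (nat_lit 544), (nat_lit 2), (nat_lit 522), (nat_lit 1750), (nat_lit 1028), (nat_lit 536), (nat_lit 4), (nat_lit 317)]),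
  ([(nat_lit 1), (nat_lit 4), (nat_lit 5), (nat_lit 4), (nat_lit 1), (nat_lit 4), (nat_lit 5), (nat_lit 4), (nat_lit 5)], [(nat_lit 724), (nat_lit 2), (nat_lit 1238), (nat_lit 1547), (nat_lit 545), (nat_lit 1075), (nat_lit 138), (nat_lit 656), (nat_lit 52), (nat_lit 1699), (nat_lit 2100), (nat_lit 3284), (nat_lit 2610), (nat_lit 2080), (nat_lit 3082), (nat_lit 1692), (nat_lit 1168), (nat_lit 564), (nat_lit 4), (nat_lit 1681), (nat_lit 2098), (nat_lit 2610), (nat_lit 2050), (nat_lit 2772), (nat_lit 2098), (nat_lit 2099), (nat_lit 1680), (nat_lit 2240), (nat_lit 1568), (nat_lit 1180), (nat_lit 656), (nat_lit 52), (nat_lit 2699), (nat_lit 2193), (nat_lit 2612), (nat_lit 3122), (nat_lit 2592), (nat_lit 3594), (nat_lit 3104), (nat_lit 2562), (nat_lit 3798), (nat_lit 3124), (nat_lit 2564), (nat_lit 1227), (nat_lit 2210), (nat_lit 2584), (nat_lit 3083), (nat_lit 2081), (nat_lit 1674), (nat_lit 1186), (nat_lit 562), (nat_lit 32), (nat_lit 1034), (nat_lit 3284), (nat_lit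 2610), (nat_lit 2050), (nat_lit 1680), (nat_lit 2070), (nat_lit 1568), (nat_lit 2101), (nat_lit 1180), (nat_lit 1698), (nat_lit 1074), (nat_lit 544), (nat_lit 2), (nat_lit 522), (nat_lit 1750), (nat_lit 1028), (nat_lit 536), (nat_lit 4), (nat_lit 321)]),
  ([(nat_lit 4), (nat_lit 5), (nat_lit 4), (nat_lit 5), (nat_lit 4), (nat_lit 5), (nat_lit 4), (nat_lit 5)], [(nat_lit 212), (nat_lit 1750), (nat_lit 2059), (nat_lit 1057), (nat_lit 1587), (nat_lit 650), (nat_lit 1168), (nat_lit 564), (nat_lit 2211), (nat_lit 2612), (nat_lit 3796), (nat_lit 3122), (nat_lit 2592), (nat_lit 3594), (nat_lit 2204), (nat_lit 1680), (nat_lit 1076), (nat_lit 516), (nat_lit 2193), (nat_lit 2610), (nat_lit 3798), (nat_lit 3124), (nat_lit 3125), (nat_lit 1227), (nat_lit 2204), (nat_lit 2722), (nat_lit 3266), (nat_lit 2098), (nat_lit 2612), (nat_lit 3083), (nat_lit 2081), (nat_lit 3082), (nat_lit 1674), (nat_lit 1186), (nat_lit 562), (nat_lit 2), (nat_lit 1699), (nat_lit 714), (nat_lit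 2100), (nat_lit 2612), (nat_lit 2052), (nat_lit 2772), (nat_lit 2098), (nat_lit 2099), (nat_lit 1680), (nat_lit 2240), (nat_lit 1568), (nat_lit 1180), (nat_lit 656), (nat_lit 52), (nat_lit 2699), (nat_lit 2193), (nat_lit 2612), (nat_lit 3122), (nat_lit 2592), (nat_lit 3594), (nat_lit 3104), (nat_lit 2562), (nat_lit 3798), (nat_lit 3124), (nat_lit 2564), (nat_lit 1227), (nat_lit 2210), (nat_lit 2584), (nat_lit 3083), (nat_lit 2081), (nat_lit 1674), (nat_lit 1186), (nat_lit 562), (nat_lit 32), (nat_lit 1034), (nat_lit 3284), (nat_lit 2610), (nat_lit 2050), (nat_lit 1680), (nat_lit 2070), (nat_lit 1568), (nat_lit 2101), (nat_lit 1180), (nat_lit 1698), (nat_lit 1074), (nat_lit 544), (nat_lit 2), (nat_lit 522), (nat_lit 1750), (nat_lit 1028), (nat_lit 536), (nat_lit 4), (nat_lit 285)]),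
  ([(nat_lit 16), (nat_lit 2), (nat_lit 16), (nat_lit 14)], [(nat_lit 194), (nat_lit 1145), (nat_lit 712), (nat_lit 121), (nat_lit 707), (nat_lit 201), (nat_lit 632), (nat_lit 1225)]),
  ([(nat_lit 17), (nat_lit 16), (nat_lit 17), (nat_lit 14)], [(nat_lit 208), (nat_lit 1224), (nat_lit 716), (nat_lit 200), (nat_lit 721), (nat_lit 205), (nat_lit 713), (nat_lit 1229)]),
  ([(nat_lit 6), (nat_lit 7), (nat_lit 6), (nat_lit 7)], [(nat_lit 210), (nat_lit 1752), (nat_lit 1059), (nat_lit 634), (nat_lit 1709), (nat_lit 3282), (nat_lit 2594), (nat_lit 2048), (nat_lit 1229), (nat_lit 1658), (nat_lit 2068), (nat_lit 1570), (nat_lit 1196), (nat_lit 546), (nat_lit 0), (nat_lit 1752), (nat_lit 1030), (nat_lit 538), (nat_lit 6), (nat_lit 269)]),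
  ([(nat_lit 5), (nat_lit 6), (nat_lit 5), (nat_lit 6)], [(nat_lit 214), (nat_lit 1746), (nat_lit 1054), (nat_lit 666), (nat_lit 30), (nat_lit 1657), (nat_lit 1224), (nat_lit 2078), (nat_lit 3286), (nat_lit 2564), (nat_lit 1690), (nat_lit 2072), (nat_lit 1567), (nat_lit 1144), (nat_lit 516), (nat_lit 1746), (nat_lit 1024), (nat_lit 532), (nat_lit 0), (nat_lit 267)])]
noncomputable def sch : List ℕ := [(nat_lit 6225), (nat_lit 10700), (nat_lit 12372), (nat_lit 14797), (nat_lit 18895), (nat_lit 38992), (nat_lit 43498), (nat_lit 47595), (nat_lit 51693), (nat_lit 69722), (nat_lit 78374), (nat_lit 79966),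
  (nat_lit 82471), (nat_lit 84520), (nat_lit 106587), (nat_lit 108636), (nat_lit 115219), (nat_lit 117268), (nat_lit 137338), (nat_lit 144138), (nat_lit 147583), (nat_lit 168897), (nat_lit 175044), (nat_lit 183240),
  (nat_lit 204901), (nat_lit 207464), (nat_lit 208999), (nat_lit 234347), (nat_lit 239750), (nat_lit 247946), (nat_lit 262374), (nat_lit 264423), (nat_lit 272619), (nat_lit 276717), (nat_lit 295092), (nat_lit 297141),
  (nat_lit 307793), (nat_lit 311484), (nat_lit 327850), (nat_lit 331948), (nat_lit 336553), (nat_lit 342193), (nat_lit 365006), (nat_lit 366863), (nat_lit 377300), (nat_lit 398164), (nat_lit 402262), (nat_lit 465726),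
  (nat_lit 475970), (nat_lit 478019), (nat_lit 498346), (nat_lit 504493), (nat_lit 508591), (nat_lit 524338), (nat_lit 526387), (nat_lit 529284), (nat_lit 532534), (nat_lit 539528), (nat_lit 543626), (nat_lit 557116),
  (nat_lit 561214), (nat_lit 565978), (nat_lit 567361), (nat_lit 572124), (nat_lit 574173), (nat_lit 589855), (nat_lit 593952), (nat_lit 598836), (nat_lit 600101), (nat_lit 604982), (nat_lit 607031), (nat_lit 622612),
  (nat_lit 626713), (nat_lit 631694), (nat_lit 632854), (nat_lit 637840), (nat_lit 639889), (nat_lit 669833), (nat_lit 671782), (nat_lit 691337), (nat_lit 693386), (nat_lit 697484), (nat_lit 703631), (nat_lit 705680),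
  (nat_lit 722006), (nat_lit 724055), (nat_lit 726104), (nat_lit 732251), (nat_lit 736349), (nat_lit 738398), (nat_lit 756833), (nat_lit 758882), (nat_lit 762980), (nat_lit 765029), (nat_lit 767078), (nat_lit 769127),
  (nat_lit 771176), (nat_lit 786442), (nat_lit 788491), (nat_lit 791309), (nat_lit 794638), (nat_lit 797456), (nat_lit 805652), (nat_lit 821249), (nat_lit 853068), (nat_lit 855117), (nat_lit 857166), (nat_lit 861264),
  (nat_lit 863313), (nat_lit 871509), (nat_lit 884776), (nat_lit 886825), (nat_lit 891501), (nat_lit 892972), (nat_lit 897648), (nat_lit 903795), (nat_lit 920643), (nat_lit 924741), (nat_lit 930888), (nat_lit 934986),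
  (nat_lit 953541), (nat_lit 1033380), (nat_lit 1051755), (nat_lit 1057902), (nat_lit 1084543), (nat_lit 1114482), (nat_lit 1122678), (nat_lit 1124727), (nat_lit 1149519), (nat_lit 1151599), (nat_lit 1153646), (nat_lit 1155666),
  (nat_lit 1159793), (nat_lit 1163862), (nat_lit 1179938), (nat_lit 1181987), (nat_lit 1184036), (nat_lit 1186085), (nat_lit 1198379), (nat_lit 1212566), (nat_lit 1220762), (nat_lit 1222811), (nat_lit 1231007), (nat_lit 1247403),
  (nat_lit 1259815), (nat_lit 1263795), (nat_lit 1311110), (nat_lit 1313159), (nat_lit 1319306), (nat_lit 1325453), (nat_lit 1343838), (nat_lit 1347936), (nat_lit 1352034), (nat_lit 1354083), (nat_lit 1376326), (nat_lit 1384522),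
  (nat_lit 1386571), (nat_lit 1442042), (nat_lit 1444091), (nat_lit 1450238), (nat_lit 1475700), (nat_lit 1479798), (nat_lit 1485945), (nat_lit 1490043), (nat_lit 1508728), (nat_lit 1516924), (nat_lit 1540406), (nat_lit 1544504),
  (nat_lit 1550651), (nat_lit 1573184), (nat_lit 1577282), (nat_lit 1606082), (nat_lit 1610179), (nat_lit 1639810), (nat_lit 1643908), (nat_lit 1650055), (nat_lit 1706794), (nat_lit 1712942), (nat_lit 1719087), (nat_lit 1721136),
  (nat_lit 1742052), (nat_lit 1770012), (nat_lit 1772064), (nat_lit 1778205), (nat_lit 1784355), (nat_lit 1802811), (nat_lit 1804858), (nat_lit 1811006), (nat_lit 1817151), (nat_lit 1835438), (nat_lit 1837487), (nat_lit 1843634),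
  (nat_lit 1851830), (nat_lit 1868247), (nat_lit 1870294), (nat_lit 1876442), (nat_lit 1884636), (nat_lit 1903304), (nat_lit 1905351), (nat_lit 1911498), (nat_lit 1915597), (nat_lit 1919694), (nat_lit 1999108), (nat_lit 2007304),
  (nat_lit 2011402), (nat_lit 2164937), (nat_lit 2166986), (nat_lit 2171084), (nat_lit 2177231), (nat_lit 2263841), (nat_lit 2269988), (nat_lit 2276135), (nat_lit 2297049), (nat_lit 2327168), (nat_lit 2345609), (nat_lit 2363584),
  (nat_lit 2392814), (nat_lit 2396911), (nat_lit 2398961), (nat_lit 2425332), (nat_lit 2429433), (nat_lit 2433525), (nat_lit 2435574), (nat_lit 2460278), (nat_lit 2466426), (nat_lit 2474620), (nat_lit 2493027), (nat_lit 2509419),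
  (nat_lit 2568302), (nat_lit 2589432), (nat_lit 2603775), (nat_lit 2636203), (nat_lit 2655598), (nat_lit 2657647), (nat_lit 2663794), (nat_lit 2753042), (nat_lit 2759109), (nat_lit 3148567), (nat_lit 3150616), (nat_lit 3152665),
  (nat_lit 3179376), (nat_lit 3189621), (nat_lit 3191670), (nat_lit 3212194), (nat_lit 3220387), (nat_lit 3224485), (nat_lit 3283067), (nat_lit 3309909), (nat_lit 3311956), (nat_lit 3326298), (nat_lit 3342816), (nat_lit 3351009),
  (nat_lit 3355107), (nat_lit 3375544), (nat_lit 3377594), (nat_lit 3387838), (nat_lit 3414859), (nat_lit 3416908), (nat_lit 3478806), (nat_lit 3507856), (nat_lit 3539464), (nat_lit 3543562), (nat_lit 3545611), (nat_lit 3547660),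
  (nat_lit 3549709), (nat_lit 3574281), (nat_lit 3578409), (nat_lit 3580459), (nat_lit 3582506), (nat_lit 3637658), (nat_lit 3639707), (nat_lit 3641756), (nat_lit 3647903), (nat_lit 3649952), (nat_lit 3674604), (nat_lit 3676820),
  (nat_lit 3678702), (nat_lit 3682800), (nat_lit 3703294), (nat_lit 3705343), (nat_lit 3709441), (nat_lit 3711490), (nat_lit 3717637), (nat_lit 3769210), (nat_lit 3781592), (nat_lit 3783553), (nat_lit 3801368), (nat_lit 3809564),
  (nat_lit 3811613), (nat_lit 3813662), (nat_lit 3817760), (nat_lit 3834216), (nat_lit 3836265), (nat_lit 3842412), (nat_lit 3846510), (nat_lit 3848559), (nat_lit 3867024), (nat_lit 3875221), (nat_lit 3877268), (nat_lit 3899972),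
  (nat_lit 3908165), (nat_lit 3910214), (nat_lit 3932720), (nat_lit 3934769), (nat_lit 3936818), (nat_lit 3967187), (nat_lit 3973334), (nat_lit 3979481), (nat_lit 4064902), (nat_lit 4073098), (nat_lit 4137945), (nat_lit 4194994),
  (nat_lit 4205239), (nat_lit 4207288), (nat_lit 4227812), (nat_lit 4242155), (nat_lit 4264708), (nat_lit 4268806), (nat_lit 4326096), (nat_lit 4328146), (nat_lit 4336340), (nat_lit 4338390), (nat_lit 4344536), (nat_lit 4359404),
  (nat_lit 4397169), (nat_lit 4424540), (nat_lit 4438883), (nat_lit 4459707), (nat_lit 4474050), (nat_lit 4620888), (nat_lit 4639329), (nat_lit 4787447), (nat_lit 4816996), (nat_lit 5088203), (nat_lit 5090257), (nat_lit 5258593),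
  (nat_lit 5278658), (nat_lit 5290949), (nat_lit 5422034), (nat_lit 5426161), (nat_lit 5458949), (nat_lit 110685), (nat_lit 166000), (nat_lit 169997), (nat_lit 172147), (nat_lit 266472), (nat_lit 301239), (nat_lit 346350),
  (nat_lit 428313), (nat_lit 438637), (nat_lit 460871), (nat_lit 469039), (nat_lit 491520), (nat_lit 493610), (nat_lit 495618), (nat_lit 501765), (nat_lit 505863), (nat_lit 602178), (nat_lit 634903), (nat_lit 658389),
  (nat_lit 660438), (nat_lit 665735), (nat_lit 699533), (nat_lit 728153), (nat_lit 792629), (nat_lit 859215), (nat_lit 899090), (nat_lit 918594), (nat_lit 922692), (nat_lit 928839), (nat_lit 932937), (nat_lit 967884),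
  (nat_lit 984210), (nat_lit 986259), (nat_lit 990357), (nat_lit 994455), (nat_lit 1019037), (nat_lit 1021086), (nat_lit 1031331), (nat_lit 1049706), (nat_lit 1053804), (nat_lit 1055853), (nat_lit 1059951), (nat_lit 1066098),
  (nat_lit 1082494), (nat_lit 1086592), (nat_lit 1088641), (nat_lit 1092739), (nat_lit 1096837), (nat_lit 1118580), (nat_lit 1190352), (nat_lit 1214758), (nat_lit 1216664), (nat_lit 1224860), (nat_lit 1251501), (nat_lit 1254147),
  (nat_lit 1288587), (nat_lit 1323404), (nat_lit 1378655), (nat_lit 1380424), (nat_lit 1448189), (nat_lit 1481847), (nat_lit 1510777), (nat_lit 1514875), (nat_lit 1552700), (nat_lit 1554749), (nat_lit 1583429), (nat_lit 1587527),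
  (nat_lit 1612099), (nat_lit 1616326), (nat_lit 1654153), (nat_lit 1780254), (nat_lit 1806908), (nat_lit 1841585), (nat_lit 1874393), (nat_lit 1907401), (nat_lit 1913548), (nat_lit 1969439), (nat_lit 1977635), (nat_lit 2005255),
  (nat_lit 2038393), (nat_lit 2065034), (nat_lit 2071180), (nat_lit 2073230), (nat_lit 2077327), (nat_lit 2162888), (nat_lit 2196656), (nat_lit 2200754), (nat_lit 2202803), (nat_lit 2235171), (nat_lit 2427384), (nat_lit 2532332),
  (nat_lit 2542347), (nat_lit 2659696), (nat_lit 2669941), (nat_lit 2723173), (nat_lit 2725222), (nat_lit 2729320), (nat_lit 2731369), (nat_lit 2818718), (nat_lit 2988735), (nat_lit 2996931), (nat_lit 3015526), (nat_lit 3031918),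
  (nat_lit 3053142), (nat_lit 3085920), (nat_lit 3118698), (nat_lit 3158844), (nat_lit 3316055), (nat_lit 3348966), (nat_lit 3381691), (nat_lit 3541412), (nat_lit 3557905), (nat_lit 3605400), (nat_lit 3645854), (nat_lit 3785602),
  (nat_lit 3871121), (nat_lit 3902024), (nat_lit 3942965), (nat_lit 3965138), (nat_lit 4097030), (nat_lit 4129468), (nat_lit 4144141), (nat_lit 4279018), (nat_lit 4440963), (nat_lit 4442981), (nat_lit 4472001), (nat_lit 4590929),
  (nat_lit 4592978), (nat_lit 4597076), (nat_lit 4599125), (nat_lit 4629084), (nat_lit 4760193), (nat_lit 4785398), (nat_lit 4799741), (nat_lit 4854713), (nat_lit 4860860), (nat_lit 5092314), (nat_lit 5293001), (nat_lit 5440508),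
  (nat_lit 131842), (nat_lit 180343), (nat_lit 278715), (nat_lit 280815), (nat_lit 313962), (nat_lit 530518), (nat_lit 662487), (nat_lit 802872), (nat_lit 824248), (nat_lit 830395), (nat_lit 831594), (nat_lit 869460),
  (nat_lit 988308), (nat_lit 1000602), (nat_lit 1029282), (nat_lit 1068147), (nat_lit 1094788), (nat_lit 1282440), (nat_lit 1349985), (nat_lit 1454336), (nat_lit 1521022), (nat_lit 1579071), (nat_lit 1645957), (nat_lit 1754346),
  (nat_lit 1774113), (nat_lit 1813057), (nat_lit 1847732), (nat_lit 1880542), (nat_lit 1981733), (nat_lit 2144353), (nat_lit 2329186), (nat_lit 2335364), (nat_lit 2536382), (nat_lit 2595579), (nat_lit 2621770), (nat_lit 2727271),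
  (nat_lit 2851116), (nat_lit 2865819), (nat_lit 2883744), (nat_lit 2916592), (nat_lit 2952009), (nat_lit 2982730), (nat_lit 2986686), (nat_lit 3023722), (nat_lit 3029869), (nat_lit 3244972), (nat_lit 3324249), (nat_lit 3385788),
  (nat_lit 3412821), (nat_lit 3744638), (nat_lit 3755012), (nat_lit 3771259), (nat_lit 3787739), (nat_lit 4294138), (nat_lit 4428638), (nat_lit 4434785), (nat_lit 4467903), (nat_lit 4605272), (nat_lit 4607321), (nat_lit 4658504),
  (nat_lit 4660553), (nat_lit 4664651), (nat_lit 4666700), (nat_lit 5487939), (nat_lit 211561), (nat_lit 232295), (nat_lit 334057), (nat_lit 412507), (nat_lit 536659), (nat_lit 596001), (nat_lit 628762), (nat_lit 667784),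
  (nat_lit 695435), (nat_lit 701582), (nat_lit 734300), (nat_lit 760931), (nat_lit 834493), (nat_lit 835692), (nat_lit 957639), (nat_lit 996504), (nat_lit 1023135), (nat_lit 1098886), (nat_lit 1116531), (nat_lit 1165941),
  (nat_lit 1382642), (nat_lit 1411292), (nat_lit 1415541), (nat_lit 1446140), (nat_lit 1487994), (nat_lit 1546553), (nat_lit 1620425), (nat_lit 1652104), (nat_lit 1672708), (nat_lit 1676806), (nat_lit 1746150), (nat_lit 1983782),
  (nat_lit 2001157), (nat_lit 2003206), (nat_lit 2208950), (nat_lit 2230413), (nat_lit 2233122), (nat_lit 2265920), (nat_lit 2464527), (nat_lit 2694413), (nat_lit 2733418), (nat_lit 2735467), (nat_lit 2767386), (nat_lit 2833062),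
  (nat_lit 3017544), (nat_lit 3195798), (nat_lit 3322204), (nat_lit 3344868), (nat_lit 3346917), (nat_lit 3480855), (nat_lit 3514003), (nat_lit 3869074), (nat_lit 3873171), (nat_lit 3904073), (nat_lit 3906122), (nat_lit 3940916),
  (nat_lit 3945014), (nat_lit 3969236), (nat_lit 3971285), (nat_lit 4000935), (nat_lit 4002984), (nat_lit 4033973), (nat_lit 4036022), (nat_lit 4066951), (nat_lit 4463805), (nat_lit 4492735), (nat_lit 4494784), (nat_lit 4527652),
  (nat_lit 4668749), (nat_lit 4670798), (nat_lit 268470), (nat_lit 270570), (nat_lit 303288), (nat_lit 338095), (nat_lit 375251), (nat_lit 955590), (nat_lit 959688), (nat_lit 961737), (nat_lit 1027233), (nat_lit 1194281),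
  (nat_lit 1226909), (nat_lit 1284489), (nat_lit 1317226), (nat_lit 1512826), (nat_lit 1678855), (nat_lit 1710893), (nat_lit 1740003), (nat_lit 1748199), (nat_lit 1936811), (nat_lit 1938860), (nat_lit 1940909), (nat_lit 1979684),
  (nat_lit 2104529), (nat_lit 2169035), (nat_lit 2299098), (nat_lit 2301147), (nat_lit 2661745), (nat_lit 2690315), (nat_lit 2984637), (nat_lit 3314006), (nat_lit 3318104), (nat_lit 3379641), (nat_lit 3383741), (nat_lit 3551758),
  (nat_lit 3584556), (nat_lit 3643805), (nat_lit 3680751), (nat_lit 3719686), (nat_lit 3815711), (nat_lit 3850608), (nat_lit 4005033), (nat_lit 4038071), (nat_lit 4461756), (nat_lit 4693461), (nat_lit 4726219), (nat_lit 274668),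
  (nat_lit 305766), (nat_lit 340673), (nat_lit 998553), (nat_lit 2499561), (nat_lit 2692364), (nat_lit 2696462), (nat_lit 5407720), (nat_lit 5506354), (nat_lit 2462328), (nat_lit 2036302), (nat_lit 2069133), (nat_lit 4031924),
  (nat_lit 1147500), (nat_lit 2034295), (nat_lit 2067083), (nat_lit 2295000), (nat_lit 2800004), (nat_lit 432411), (nat_lit 373202), (nat_lit 379349), (nat_lit 3808133), (nat_lit 2885936), (nat_lit 2958123), (nat_lit 3214246),
  (nat_lit 1704716), (nat_lit 2098382), (nat_lit 2458400), (nat_lit 2859672), (nat_lit 3607449), (nat_lit 3838467), (nat_lit 1776162), (nat_lit 1815106), (nat_lit 1845683), (nat_lit 1878493), (nat_lit 2140544), (nat_lit 2148733),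
  (nat_lit 2228465), (nat_lit 2261823), (nat_lit 2787989), (nat_lit 2820767), (nat_lit 2826914), (nat_lit 2918824), (nat_lit 3247024), (nat_lit 3408722), (nat_lit 3410771), (nat_lit 3613596), (nat_lit 3707392), (nat_lit 3713581),
  (nat_lit 4071049), (nat_lit 393637), (nat_lit 1782303), (nat_lit 1808957), (nat_lit 1839536), (nat_lit 1872344), (nat_lit 2134550), (nat_lit 2632445), (nat_lit 2924788), (nat_lit 3253165), (nat_lit 3586575), (nat_lit 3686898),
  (nat_lit 2236560), (nat_lit 2564860), (nat_lit 3553705), (nat_lit 404311), (nat_lit 408409), (nat_lit 1327502), (nat_lit 1786404), (nat_lit 1819200), (nat_lit 1849781), (nat_lit 1882587), (nat_lit 2630342), (nat_lit 2921370),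
  (nat_lit 3249073), (nat_lit 3652001), (nat_lit 4229861), (nat_lit 4231910), (nat_lit 4260520), (nat_lit 1188305), (nat_lit 1294560), (nat_lit 1425786), (nat_lit 1934762), (nat_lit 2039972), (nat_lit 2046589), (nat_lit 2431482),
  (nat_lit 2468646), (nat_lit 2597249), (nat_lit 2798234), (nat_lit 2831011), (nat_lit 2863410), (nat_lit 2890631), (nat_lit 2892077), (nat_lit 2949390), (nat_lit 2966352), (nat_lit 3218344), (nat_lit 3424924), (nat_lit 3805466),
  (nat_lit 3998886), (nat_lit 4069000), (nat_lit 430443), (nat_lit 1290316), (nat_lit 1456385), (nat_lit 2042491), (nat_lit 2075280), (nat_lit 2138207), (nat_lit 2240760), (nat_lit 2359486), (nat_lit 2368222), (nat_lit 2401011),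
  (nat_lit 2785660), (nat_lit 2802051), (nat_lit 2835109), (nat_lit 2853195), (nat_lit 2867508), (nat_lit 3421006), (nat_lit 3840516), (nat_lit 4197254), (nat_lit 471088), (nat_lit 509961), (nat_lit 837741), (nat_lit 901137),
  (nat_lit 937035), (nat_lit 965835), (nat_lit 1100935), (nat_lit 1548602), (nat_lit 1581380), (nat_lit 1752297), (nat_lit 1951154), (nat_lit 2013451), (nat_lit 2671990), (nat_lit 2887985), (nat_lit 2961496), (nat_lit 3715630),
  (nat_lit 4672847), (nat_lit 4835445), (nat_lit 540730), (nat_lit 575557), (nat_lit 608295), (nat_lit 641053), (nat_lit 673931), (nat_lit 707729), (nat_lit 740447), (nat_lit 773225), (nat_lit 798736), (nat_lit 800823),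
  (nat_lit 865362), (nat_lit 867411), (nat_lit 895021), (nat_lit 963786), (nat_lit 969933), (nat_lit 1002651), (nat_lit 1035429), (nat_lit 1064049), (nat_lit 1130742), (nat_lit 1292365), (nat_lit 1452287), (nat_lit 1458434),
  (nat_lit 1518973), (nat_lit 1525120), (nat_lit 1558847), (nat_lit 1591625), (nat_lit 1624522), (nat_lit 1658251), (nat_lit 1682953), (nat_lit 1756395), (nat_lit 1917647), (nat_lit 1985831), (nat_lit 2048638), (nat_lit 2081425),
  (nat_lit 2245416), (nat_lit 2278212), (nat_lit 2378467), (nat_lit 2411254), (nat_lit 2472533), (nat_lit 2665843), (nat_lit 2702609), (nat_lit 2739565), (nat_lit 2769433), (nat_lit 2861721), (nat_lit 3295361), (nat_lit 3590836),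
  (nat_lit 3609499), (nat_lit 3684849), (nat_lit 4013229), (nat_lit 4075147), (nat_lit 4177199), (nat_lit 4296187), (nat_lit 4298236), (nat_lit 4330193), (nat_lit 4361453), (nat_lit 4363502), (nat_lit 4403316), (nat_lit 4405372),
  (nat_lit 4476099), (nat_lit 4560410), (nat_lit 4803839), (nat_lit 4825192), (nat_lit 5262691), (nat_lit 5492037), (nat_lit 5514550), (nat_lit 5524795), (nat_lit 499716), (nat_lit 534610), (nat_lit 559165), (nat_lit 591902),
  (nat_lit 624664), (nat_lit 655490), (nat_lit 689288), (nat_lit 730202), (nat_lit 754784), (nat_lit 926790), (nat_lit 951492), (nat_lit 992406), (nat_lit 1016988), (nat_lit 1025184), (nat_lit 1062000), (nat_lit 1090690),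
  (nat_lit 1157746), (nat_lit 1161844), (nat_lit 1390949), (nat_lit 1421688), (nat_lit 1483896), (nat_lit 1494141), (nat_lit 1542455), (nat_lit 1575233), (nat_lit 1608132), (nat_lit 1641859), (nat_lit 1648006), (nat_lit 1680904),
  (nat_lit 1714993), (nat_lit 1737954), (nat_lit 1942958), (nat_lit 1947056), (nat_lit 1967390), (nat_lit 1975586), (nat_lit 2009353), (nat_lit 2079378), (nat_lit 2106578), (nat_lit 2108627), (nat_lit 2112725), (nat_lit 2173133),
  (nat_lit 2204852), (nat_lit 2215097), (nat_lit 2274118), (nat_lit 2303196), (nat_lit 2362075), (nat_lit 2370271), (nat_lit 2374369), (nat_lit 2394864), (nat_lit 2403058), (nat_lit 2407157), (nat_lit 2439675), (nat_lit 2628007),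
  (nat_lit 2688266), (nat_lit 2700560), (nat_lit 2757141), (nat_lit 2795906), (nat_lit 2828964), (nat_lit 2922922), (nat_lit 3049044), (nat_lit 3081822), (nat_lit 3122796), (nat_lit 3181458), (nat_lit 3216295), (nat_lit 3251122),
  (nat_lit 3353058), (nat_lit 3441920), (nat_lit 3509905), (nat_lit 3511954), (nat_lit 3516052), (nat_lit 3879318), (nat_lit 3912263), (nat_lit 3938867), (nat_lit 3981530), (nat_lit 4040120), (nat_lit 4162856), (nat_lit 4199282),
  (nat_lit 4302334), (nat_lit 4342489), (nat_lit 4371698), (nat_lit 4457658), (nat_lit 4498882), (nat_lit 4507078), (nat_lit 4531750), (nat_lit 4793594), (nat_lit 5127701), (nat_lit 5473596), (nat_lit 1132923), (nat_lit 1192232),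
  (nat_lit 1196330), (nat_lit 1229687), (nat_lit 1258267), (nat_lit 1262365), (nat_lit 1362279), (nat_lit 1394933), (nat_lit 1427681), (nat_lit 1523071), (nat_lit 1614279), (nat_lit 1687051), (nat_lit 2044070), (nat_lit 2143188),
  (nat_lit 2242707), (nat_lit 2443773), (nat_lit 2634494), (nat_lit 2721124), (nat_lit 2896175), (nat_lit 2955537), (nat_lit 2968401), (nat_lit 2995189), (nat_lit 3034136), (nat_lit 3059289), (nat_lit 3063387), (nat_lit 3092067),
  (nat_lit 3096165), (nat_lit 3114600), (nat_lit 3124845), (nat_lit 3128943), (nat_lit 3156795), (nat_lit 3160889), (nat_lit 3183507), (nat_lit 3193749), (nat_lit 3290134), (nat_lit 3293312), (nat_lit 3427307), (nat_lit 3446018),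
  (nat_lit 3452165), (nat_lit 3456263), (nat_lit 3484953), (nat_lit 3489051), (nat_lit 3520150), (nat_lit 3656099), (nat_lit 3885464), (nat_lit 3916364), (nat_lit 3951161), (nat_lit 3977432), (nat_lit 4046267), (nat_lit 4233959),
  (nat_lit 4266996), (nat_lit 4306432), (nat_lit 4393971), (nat_lit 4395129), (nat_lit 4623326), (nat_lit 4701657), (nat_lit 4884022), (nat_lit 4916710), (nat_lit 4949468), (nat_lit 5115407), (nat_lit 5160569), (nat_lit 5246299),
  (nat_lit 5260642), (nat_lit 5344833), (nat_lit 5456919), (nat_lit 5508403), (nat_lit 5510452), (nat_lit 1128825), (nat_lit 1296783), (nat_lit 1329510), (nat_lit 1356132), (nat_lit 1360078), (nat_lit 1392887), (nat_lit 1460483),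
  (nat_lit 1477749), (nat_lit 1492092), (nat_lit 1674757), (nat_lit 1685002), (nat_lit 1691149), (nat_lit 1708844), (nat_lit 1723187), (nat_lit 1949105), (nat_lit 1953203), (nat_lit 2015500), (nat_lit 2100431), (nat_lit 2102480),
  (nat_lit 2175781), (nat_lit 2179280), (nat_lit 2198705), (nat_lit 2213048), (nat_lit 2267969), (nat_lit 2272069), (nat_lit 2305245), (nat_lit 2307294), (nat_lit 2309343), (nat_lit 2311392), (nat_lit 2365633), (nat_lit 2470674),
  (nat_lit 2503304), (nat_lit 2528234), (nat_lit 2674039), (nat_lit 2931615), (nat_lit 3055191), (nat_lit 3087969), (nat_lit 3098214), (nat_lit 3120747), (nat_lit 3259315), (nat_lit 3288085), (nat_lit 3359208), (nat_lit 3621772),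
  (nat_lit 4044218), (nat_lit 4048316), (nat_lit 4213625), (nat_lit 4310530), (nat_lit 4375796), (nat_lit 4377845), (nat_lit 4541995), (nat_lit 4574753), (nat_lit 4699608), (nat_lit 4703706), (nat_lit 4732366), (nat_lit 4734415),
  (nat_lit 4736464), (nat_lit 4768770), (nat_lit 5094348), (nat_lit 5117456), (nat_lit 5129750), (nat_lit 5150324), (nat_lit 5183102), (nat_lit 5189249), (nat_lit 5221797), (nat_lit 5248348), (nat_lit 5280704), (nat_lit 5309996),
  (nat_lit 5312045), (nat_lit 5342784), (nat_lit 5454851), (nat_lit 5477694), (nat_lit 5489988), (nat_lit 5512501), (nat_lit 1527169), (nat_lit 1556798), (nat_lit 1585478), (nat_lit 1589576), (nat_lit 1618376), (nat_lit 1622475),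
  (nat_lit 1656202), (nat_lit 1689100), (nat_lit 1717042), (nat_lit 2110676), (nat_lit 2114774), (nat_lit 2331266), (nat_lit 2333315), (nat_lit 2441724), (nat_lit 2495076), (nat_lit 2497125), (nat_lit 2501255), (nat_lit 2771483),
  (nat_lit 2869917), (nat_lit 2900844), (nat_lit 2902925), (nat_lit 3021673), (nat_lit 3100263), (nat_lit 3133041), (nat_lit 3197847), (nat_lit 3228586), (nat_lit 3230635), (nat_lit 3460361), (nat_lit 3524248), (nat_lit 3742588),
  (nat_lit 3748735), (nat_lit 4432556), (nat_lit 4490686), (nat_lit 4523554), (nat_lit 4525603), (nat_lit 4556312), (nat_lit 4558361), (nat_lit 4588880), (nat_lit 4762205), (nat_lit 4764254), (nat_lit 4795643), (nat_lit 4797692),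
  (nat_lit 4850614), (nat_lit 4982346), (nat_lit 5015024), (nat_lit 5047702), (nat_lit 5185151), (nat_lit 1744101), (nat_lit 1750248), (nat_lit 1788453), (nat_lit 1821251), (nat_lit 1853879), (nat_lit 1886687), (nat_lit 1909451),
  (nat_lit 1945007), (nat_lit 1971488), (nat_lit 1973537), (nat_lit 2017549), (nat_lit 2050687), (nat_lit 2083475), (nat_lit 2116823), (nat_lit 2146686), (nat_lit 2341466), (nat_lit 2343515), (nat_lit 2524087), (nat_lit 2591481),
  (nat_lit 2593530), (nat_lit 2623910), (nat_lit 2625868), (nat_lit 2792087), (nat_lit 2804101), (nat_lit 2824864), (nat_lit 2837159), (nat_lit 2927517), (nat_lit 3255214), (nat_lit 3361257), (nat_lit 3623841), (nat_lit 4011180),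
  (nat_lit 4236008), (nat_lit 4238057), (nat_lit 4270855), (nat_lit 4274953), (nat_lit 4312579), (nat_lit 4426589), (nat_lit 4465854), (nat_lit 4625077), (nat_lit 4654406), (nat_lit 4656455), (nat_lit 4687314), (nat_lit 4689363),
  (nat_lit 4691412), (nat_lit 4720072), (nat_lit 4722121), (nat_lit 4724170), (nat_lit 4789496), (nat_lit 4791545), (nat_lit 5131799), (nat_lit 5411789), (nat_lit 2132503), (nat_lit 2181329), (nat_lit 2206901), (nat_lit 2210999),
  (nat_lit 2247465), (nat_lit 2280263), (nat_lit 2313441), (nat_lit 2337413), (nat_lit 2339462), (nat_lit 2372320), (nat_lit 2376418), (nat_lit 2405108), (nat_lit 2409207), (nat_lit 2437623), (nat_lit 2477040), (nat_lit 2505502),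
  (nat_lit 2538479), (nat_lit 2607873), (nat_lit 2640300), (nat_lit 2999071), (nat_lit 3001029), (nat_lit 3061338), (nat_lit 3065436), (nat_lit 3067485), (nat_lit 3162938), (nat_lit 3164989), (nat_lit 3263413), (nat_lit 3328349),
  (nat_lit 3393984), (nat_lit 3487002), (nat_lit 3491100), (nat_lit 3493149), (nat_lit 3526297), (nat_lit 3881367), (nat_lit 3914315), (nat_lit 3947063), (nat_lit 3975383), (nat_lit 4007082), (nat_lit 4009131), (nat_lit 4042169),
  (nat_lit 4077196), (nat_lit 4079245), (nat_lit 4081294), (nat_lit 4201331), (nat_lit 4211724), (nat_lit 4300285), (nat_lit 4332243), (nat_lit 4365551), (nat_lit 4500931), (nat_lit 4705755), (nat_lit 4738513), (nat_lit 5098521),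
  (nat_lit 5119505), (nat_lit 5152373), (nat_lit 5162618), (nat_lit 5164667), (nat_lit 5197445), (nat_lit 5223846), (nat_lit 5229993), (nat_lit 5250397), (nat_lit 5282755), (nat_lit 5316143), (nat_lit 5348931), (nat_lit 5381519),
  (nat_lit 5516599), (nat_lit 2573056), (nat_lit 2605760), (nat_lit 2638253), (nat_lit 2667892), (nat_lit 2698511), (nat_lit 2704658), (nat_lit 2706707), (nat_lit 2935689), (nat_lit 3094116), (nat_lit 3126894), (nat_lit 3185556),
  (nat_lit 3222436), (nat_lit 3391937), (nat_lit 3448067), (nat_lit 3454214), (nat_lit 3458312), (nat_lit 4109254), (nat_lit 4135945), (nat_lit 4169003), (nat_lit 4175150), (nat_lit 4496833), (nat_lit 4502980), (nat_lit 4529701),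
  (nat_lit 4535848), (nat_lit 4539946), (nat_lit 4562459), (nat_lit 4568606), (nat_lit 4572704), (nat_lit 4595027), (nat_lit 4601174), (nat_lit 4856801), (nat_lit 4886071), (nat_lit 4918759), (nat_lit 4951517), (nat_lit 4984395),
  (nat_lit 5017073), (nat_lit 5049751), (nat_lit 5096412), (nat_lit 5191298), (nat_lit 5295099), (nat_lit 5322290), (nat_lit 5355078), (nat_lit 2737516), (nat_lit 2929566), (nat_lit 3130992), (nat_lit 3257263), (nat_lit 3615382),
  (nat_lit 4146190), (nat_lit 4148239), (nat_lit 4179248), (nat_lit 4181297), (nat_lit 4408314), (nat_lit 4821984), (nat_lit 4852703), (nat_lit 4888120), (nat_lit 4890169), (nat_lit 4920808), (nat_lit 4922857), (nat_lit 4953566),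
  (nat_lit 4955615), (nat_lit 4986444), (nat_lit 4988493), (nat_lit 5019122), (nat_lit 5021171), (nat_lit 5051800), (nat_lit 5053849), (nat_lit 5326388), (nat_lit 5359176), (nat_lit 2763288), (nat_lit 2789759), (nat_lit 2822817),
  (nat_lit 2855214), (nat_lit 2894708), (nat_lit 2898827), (nat_lit 2933664), (nat_lit 2954006), (nat_lit 2960205), (nat_lit 2990874), (nat_lit 2992975), (nat_lit 3019793), (nat_lit 3025940), (nat_lit 3051093), (nat_lit 3057240),
  (nat_lit 3083871), (nat_lit 3090018), (nat_lit 3116649), (nat_lit 3146549), (nat_lit 3154744), (nat_lit 3187599), (nat_lit 3226537), (nat_lit 3261364), (nat_lit 3277840), (nat_lit 3320155), (nat_lit 3357159), (nat_lit 3389887),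
  (nat_lit 3418968), (nat_lit 3423066), (nat_lit 3443969), (nat_lit 3450116), (nat_lit 3474708), (nat_lit 3476757), (nat_lit 3482904), (nat_lit 3518101), (nat_lit 3522199), (nat_lit 3555856), (nat_lit 3588655), (nat_lit 3619840),
  (nat_lit 3654050), (nat_lit 3688947), (nat_lit 3721735), (nat_lit 3746688), (nat_lit 3775357), (nat_lit 3819809), (nat_lit 3852657), (nat_lit 4203190), (nat_lit 4304383), (nat_lit 4334293), (nat_lit 4367600), (nat_lit 4369649),
  (nat_lit 4437003), (nat_lit 4533799), (nat_lit 4564508), (nat_lit 4566557), (nat_lit 5080014), (nat_lit 5082058), (nat_lit 5113358), (nat_lit 5121554), (nat_lit 5146226), (nat_lit 5148275), (nat_lit 5154422), (nat_lit 5179004),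
  (nat_lit 5181053), (nat_lit 5187200), (nat_lit 5211552), (nat_lit 5213601), (nat_lit 5219748), (nat_lit 5244250), (nat_lit 5252446), (nat_lit 5276658), (nat_lit 5314094), (nat_lit 5346882), (nat_lit 5375372), (nat_lit 5377421),
  (nat_lit 5379470), (nat_lit 5442557), (nat_lit 5475645), (nat_lit 5481792), (nat_lit 3883417), (nat_lit 3918413), (nat_lit 3949112), (nat_lit 3983579), (nat_lit 4015278), (nat_lit 4017327), (nat_lit 4050365), (nat_lit 4083343),
  (nat_lit 4105226), (nat_lit 4131847), (nat_lit 4133896), (nat_lit 4164905), (nat_lit 4166954), (nat_lit 4171052), (nat_lit 4173101), (nat_lit 4209337), (nat_lit 4244204), (nat_lit 4246253), (nat_lit 4273143), (nat_lit 4277241),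
  (nat_lit 4308481), (nat_lit 4340439), (nat_lit 4373747), (nat_lit 4400118), (nat_lit 4430687), (nat_lit 4469952), (nat_lit 4509127), (nat_lit 4637668), (nat_lit 4828131), (nat_lit 4858850), (nat_lit 4862906), (nat_lit 4892218),
  (nat_lit 4894267), (nat_lit 4896316), (nat_lit 4924906), (nat_lit 4926955), (nat_lit 4929004), (nat_lit 4957664), (nat_lit 4959713), (nat_lit 4961762), (nat_lit 4990542), (nat_lit 4992591), (nat_lit 4994640), (nat_lit 5023220),
  (nat_lit 5025269), (nat_lit 5027318), (nat_lit 5055898), (nat_lit 5057947), (nat_lit 5059996), (nat_lit 5284807), (nat_lit 5286863), (nat_lit 5318192), (nat_lit 5320241), (nat_lit 5324339), (nat_lit 5350980), (nat_lit 5353029),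
  (nat_lit 5357127), (nat_lit 5383568), (nat_lit 5385617), (nat_lit 5389715), (nat_lit 4505029), (nat_lit 4537897), (nat_lit 4570655), (nat_lit 4603223), (nat_lit 4635231), (nat_lit 4662602), (nat_lit 4695510), (nat_lit 4697559),
  (nat_lit 4728268), (nat_lit 4730317), (nat_lit 4766721), (nat_lit 4801790), (nat_lit 4864997), (nat_lit 5084178), (nat_lit 5123603), (nat_lit 5156471), (nat_lit 5193347), (nat_lit 5215650), (nat_lit 5225895), (nat_lit 5254495),
  (nat_lit 5444627), (nat_lit 5479743), (nat_lit 5518648), (nat_lit 4832230), (nat_lit 4867047), (nat_lit 4898365), (nat_lit 4900414), (nat_lit 4902463), (nat_lit 4931053), (nat_lit 4933102), (nat_lit 4935151), (nat_lit 4963811),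
  (nat_lit 4965860), (nat_lit 4967909), (nat_lit 4996689), (nat_lit 4998738), (nat_lit 5000787), (nat_lit 5029367), (nat_lit 5031416), (nat_lit 5033465), (nat_lit 5062045), (nat_lit 5064094), (nat_lit 5066143), (nat_lit 5086160),
  (nat_lit 5125652), (nat_lit 5158520), (nat_lit 5195396), (nat_lit 5217699), (nat_lit 5227944), (nat_lit 5256544), (nat_lit 5288952), (nat_lit 5328437), (nat_lit 5361225), (nat_lit 5387666), (nat_lit 5391764), (nat_lit 5393813),
  (nat_lit 5417965), (nat_lit 5420014), (nat_lit 5450750), (nat_lit 5452799), (nat_lit 5483841), (nat_lit 5485890), (nat_lit 5520697), (nat_lit 5522746)]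

end CF.RG
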