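import Cfsg.Agent.RG.KD

/-! The leaves of the search. -/

set_option autoImplicit false
set_option maxRecDepth 1000000
set_option maxHeartbeats 0

namespace CF.RG
open Cfsg Subgroup CF.Loc CF.LX CF.Comp CF.Dce CF.Comp.Mat CF.J4 CF.JP CF.RF

/-- a mask -/
noncomputable def MU : ℕ := (nat_lit 0x111100001111000011110000111100001111000011110000111100001111000011110000111100001111000011110000111100001111000011110000111100001111000011110000111100001111000011110000111100001111000011110000111100001111000011110000111100001111000011110000111100001111)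
/-- a mask -/
noncomputable def MZ : ℕ := (nat_lit 0x1000100010001000100010001000100010001000100010001000100010001000100010001000100010001000100010001000100010001000100010001000100010001000100010001000100010001000100010001000100010001000100010001000100010001000100010001000100010001000100010001000100010001)
/-- lists of commutators -/
noncomputable def JL : List (List ℕ) := [[(nat_lit 256)],
  [(nat_lit 768)],
  [(nat_lit 16), (nat_lit 128), (nat_lit 144), (nat_lit 256), (nat_lit 272), (nat_lit 384), (nat_lit 400)],
  [(nat_lit 16), (nat_lit 160), (nat_lit 176), (nat_lit 320), (nat_lit 336), (nat_lit 480), (nat_lit 496)],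
  [(nat_lit 16), (nat_lit 32), (nat_lit 48), (nat_lit 64), (nat_lit 80), (nat_lit 96), (nat_lit 112)],
  [(nat_lit 32), (nat_lit 128), (nat_lit 160), (nat_lit 512), (nat_lit 544), (nat_lit 640), (nat_lit 672)],
  [(nat_lit 32), (nat_lit 144), (nat_lit 176), (nat_lit 576), (nat_lit 608), (nat_lit 720), (nat_lit 752)],
  [(nat_lit 80), (nat_lit 256), (nat_lit 336), (nat_lit 640), (nat_lit 720), (nat_lit 896), (nat_lit 976)],
  [(nat_lit 80), (nat_lit 272), (nat_lit 320), (nat_lit 672), (nat_lit 752), (nat_lit 944), (nat_lit 992)],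
  [(nat_lit 96), (nat_lit 384), (nat_lit 480), (nat_lit 512), (nat_lit 608), (nat_lit 896), (nat_lit 992)],
  [(nat_lit 48), (nat_lit 128), (nat_lit 176), (nat_lit 768), (nat_lit 816), (nat_lit 896), (nat_lit 944)],
  [(nat_lit 48), (nat_lit 144), (nat_lit 160), (nat_lit 832), (nat_lit 880), (nat_lit 976), (nat_lit 992)],
  [(nat_lit 96), (nat_lit 400), (nat_lit 496), (nat_lit 544), (nat_lit 576), (nat_lit 944), (nat_lit 976)],
  [(nat_lit 64), (nat_lit 272), (nat_lit 336), (nat_lit 544), (nat_lit 608), (nat_lit 816), (nat_lit 880)],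
  [(nat_lit 64), (nat_lit 256), (nat_lit 320), (nat_lit 512), (nat_lit 576), (nat_lit 768), (nat_lit 832)],
  [(nat_lit 112), (nat_lit 384), (nat_lit 496), (nat_lit 640), (nat_lit 752), (nat_lit 768), (nat_lit 880)],
  [(nat_lit 112), (nat_lit 400), (nat_lit 480), (nat_lit 672), (nat_lit 720), (nat_lit 816), (nat_lit 832)]]
/-- some pure vectors -/
def PJ : List ℕ := [512, 256, 768, 896, 992, 976, 880, 832, 400, 496, 112, 672, 752, 944]

/-- the matrices of the involutions -/
noncomputable abbrev mx (i : ℕ) : ℕ := gx (10 * 10) LPA i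
/-- the commutator maps -/
noncomputable def my (i : ℕ) : ℕ := Nat.xor (mx i) (mo 10)

/-- a vector is a commutator with a fixed vector -/
noncomputable def hit (FX : ℕ → ℕ) (S : List ℕ) (a j : ℕ) : Bool := force (FX a) fun X =>
  lany (fun b => force (my b) fun y => bn (Nat.beq (Nat.land (so 10 1024 y j 10) X) 0)) S

/-- an intersection -/
noncomputable def ia (f : ℕ → ℕ) (l : List ℕ) : ℕ := List.rec (motive := fun _ => ℕ) (full 1024)
  (fun s _ r => Nat.land r (f s)) l

/-- generators -/
noncomputable def gs (S : List ℕ) : List ℕ := force (llen S) fun L =>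
  lmap (fun k => my (nth 0 S (Nat.sub L k))) [1, 3, 7, 15, 31, 63]

/-- the double commutators vanish only on `U` -/
noncomputable def f5 (S : List ℕ) : Bool := forceL (gs S) fun M =>
  force (ia (fun x => ia (fun y => force (mm 10 x y) fun p => so 10 1024 p 0 10) M) M) fun X => Nat.beq (Nat.land X MU) X

/-- an inequality -/
noncomputable def f6 (FX : ℕ → ℕ) (S : List ℕ) (C a : ℕ) : Bool :=
  Nat.ble (Nat.succ (Nat.mul (Nat.succ (llen (lfil (fun i => lm i SQ) S))) (pop 1024 (Nat.land C MU))))
    (pop 1024 (Nat.land (FX a) MU))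

/-- no vector is left -/
noncomputable def f2 (FX : ℕ → ℕ) (S : List ℕ) (a : ℕ) : Bool := lany (fun J => Bool.rec false
  (Nat.beq (un (fun b => force (my b) fun y => un (fun c => so 10 1024 y c 10) (0 :: J)) S) (full 1024))
  (lall (hit FX S a) J)) JL

/-- the cases for one element -/
noncomputable def rest (FX : ℕ → ℕ) (S : List ℕ) (C : ℕ) (p : Bool) (a : ℕ) : Bool :=
  Bool.rec (Bool.rec (f2 FX S a) true (Bool.rec false (lall (hit FX S a) [128, 256, 512]) (Nat.beq (lk S) (lk S6))))
    true (Bool.rec false (lany (hit FX S a) PJ) (Bool.rec (f6 FX S C a) true p))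

/-- the leaf -/
noncomputable def lfA (FX IM PF : ℕ → ℕ) (S : List ℕ) (C r : ℕ) : Bool := Bool.rec false
  (Bool.rec (Bool.rec (lall (fun a => Bool.rec (rest FX S C false a) true (dF 128 PF IM r C a)) S)
    (lall (fun a => Bool.rec (rest FX S C true a) true (dF 128 PF IM r C a)) S) (f5 S)) true (lall (dF 128 PF IM r C) S))
  (Bool.rec (Bool.rec (Bool.rec false (Nat.beq C MZ) (Nat.beq (lk S) (lk SE))) true (Nat.ble r 1023)) true
    (Nat.beq (llen S) 0))

end CF.RG
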