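import Cfsg.Agent.RG.M2

/-! Orbits on the module of rank eleven. -/

set_option autoImplicit false
set_option maxRecDepth 1000000
set_option maxHeartbeats 0

namespace CF.RG
open Cfsg Subgroup CF.Loc CF.LX CF.Comp CF.Dce CF.Comp.Mat CF.J4 CF.JP CF.RF

/-- the orbits -/
noncomputable def vOM : List ℕ := [(nat_lit 0xe880100004000080004008002000d44002000080008001000240000000000140002008000420000008000010000004104000b22000000120000002108000711000081008200000002000000000041004400000008e0801080000800002044d04400000000000800080e80018002440d40002100204022b02004220b2088e177e),
  (nat_lit 0x177eeffefbfeff7effbef7fedffe2bbefdfeff7eff7efefefdbefffefffefebeffdef7fefbdefffef7feffeefffefbeebffe4ddefffefedefffefdee7ffe8eeefff6eff6dffefffedffefffefffaeffabffefffe71f6fef6fffe7ffefdfab2fabffefffefffe7ffe7f16ffe6ffdabf2afffceffcfbfcd4fcffbcdf4cf770e880),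
  (nat_lit 0x100010000000100000000000100010000000000010001000000000001000100000001000000000001000000010000000100000001000000010000000100010001000000000000000000010001000000000001000100000000000100010000000000000000000100010001000100010001000100010001000100010000),
  (nat_lit 0x1000000000001000000010001000000000001000100000000000100010000000000010000000100010000000100000001000000010000000100000001000000000000000100010001000100000000000100010000000000010001000000000001000100010001000000000000000000000000000000000000000000000000),
  (nat_lit 0xfdffdfbffb7fbfff7ee8fff7ffdfe7ffeff7fee87ffff7dfffbfbdffdbffff7fbfdff7fffee8dff7fbffef7ffdbf7fff7ffffb7ffdbfeffff7dfdffffee8bff7f7bf7fffdffffd7feffffbdfbff7fee8fee8eff7bfdffbfffd7f7ffff7ffdfbfff7fbdffe7ffffbfdff7fee87ffffbdfdbffffdffff77ee8bffff7bfef7ffdff0000000000000000000000000000000000000000000000000000000000000000000000000000000000000000000000000000000000000000000000000000000000000000000000000000000000000000000000000000000000000000000000000000000000000000000000000000000000000000000000000000000000000000),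
  (nat_lit 0x2002040048040008117000800201800100801178000082000404200240000804020080001172008040010800240800080000480024010000820200001174008084080002000028010000420400801170117100840200400028080000800204000804200180000402008011780000420240000200008811740000840108002000000000000000000000000000000000000000000000000000000000000000000000000000000000000000000000000000000000000000000000000000000000000000000000000000000000000000000000000000000000000000000000000000000000000000000000000000000000000000000000000000000000000000000)]

/-- representatives -/
def vRP : List ℕ := [1, 7, 512, 192, 1024, 1033]

/-- generators -/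
def vGP : List (List ℕ) := [[21], [23], [25], [27], [41], [43], [45]]

/-- a union of orbits -/
noncomputable def vUO (J k : ℕ) : ℕ := Nat.rec (motive := fun _ => ℕ) 0
  (fun i r => Bool.rec r (Nat.lor r (nth 0 vOM i)) (J.testBit i)) k

theorem vOM_eq : ∀ i < 6, forceL (lmap (vw LV1) vGP) (fun L => bfs 11 L 6400 [nth 0 vRP i] 0) = nth 0 vOM i := by
  decide +kernel

theorem vot4 : otOK 4 [true, true, false, false, false, true, false, true, true]
    [33961, 33833, 33953, 35873, 33889, 50209] = true := by decide +kernel

end CF.RG
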